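import Mathlib.CategoryTheory.Adjunction.Mates
import Mathlib.CategoryTheory.Whiskering

/-!
# Pasting of base change morphisms, abstractly
-/

set_option autoImplicit false

open CategoryTheory

namespace Groth.Agent.CohBase.TorBC

noncomputable section

section Defs

variable {A B C D : Type*} [Category A] [Category B] [Category C] [Category D]

/-- associativity of four composition isomorphisms -/
def AssocEq {Ll : A ⥤ B} {Lk : B ⥤ C} {Lh : C ⥤ D} {Lkl : A ⥤ C} {Lhk : B ⥤ D} {Lhkl : A ⥤ D}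
    (σ₁ : Ll ⋙ Lk ≅ Lkl) (σ₂ : Lkl ⋙ Lh ≅ Lhkl) (σ₃ : Lk ⋙ Lh ≅ Lhk) (σ₄ : Ll ⋙ Lhk ≅ Lhkl) : Prop :=
  ∀ T : A, Lh.map (σ₁.hom.app T) ≫ σ₂.hom.app T = σ₃.hom.app (Ll.obj T) ≫ σ₄.hom.app T

/-- the square of two compositions with the same value -/
def sqc {G : A ⥤ B} {Q : B ⥤ D} {F : A ⥤ C} {P : C ⥤ D} {R : A ⥤ D} (k₁ : G ⋙ Q ≅ R) (k₂ : F ⋙ P ≅ R) :
    G ⋙ Q ≅ F ⋙ P := k₁ ≪≫ k₂.symm

/-- the transposed base change morphism -/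
def trans {G : A ⥤ B} {Q : B ⥤ D} {F : A ⥤ C} {P : C ⥤ D} (c : G ⋙ Q ≅ F ⋙ P) {R : C ⥤ A} (adj : F ⊣ R)
    (E : C) : Q.obj (G.obj (R.obj E)) ⟶ P.obj E :=
  c.hom.app (R.obj E) ≫ P.map (adj.counit.app E)

/-- the base change morphism -/
def bcm {G : A ⥤ B} {Q : B ⥤ D} {F : A ⥤ C} {P : C ⥤ D} (c : G ⋙ Q ≅ F ⋙ P) {R : C ⥤ A} (adj : F ⊣ R)
    {Rq : D ⥤ B} (adjq : Q ⊣ Rq) (E : C) : G.obj (R.obj E) ⟶ Rq.obj (P.obj E) :=
  adjq.homEquiv _ _ (trans c adj E)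

lemma bcm_naturality {G : A ⥤ B} {Q : B ⥤ D} {F : A ⥤ C} {P : C ⥤ D} (c : G ⋙ Q ≅ F ⋙ P) {R : C ⥤ A}
    (adj : F ⊣ R) {Rq : D ⥤ B} (adjq : Q ⊣ Rq) {E E' : C} (φ : E ⟶ E') :
    G.map (R.map φ) ≫ bcm c adj adjq E' = bcm c adj adjq E ≫ Rq.map (P.map φ) := by
  have hc : Q.map (G.map (R.map φ)) ≫ c.hom.app (R.obj E') = c.hom.app (R.obj E) ≫ P.map (F.map (R.map φ)) :=
    c.hom.naturality (R.map φ)
  have hε : F.map (R.map φ) ≫ adj.counit.app E' = adj.counit.app E ≫ φ := adj.counit.naturality φ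
  rw [bcm, bcm, ← adjq.homEquiv_naturality_left, ← adjq.homEquiv_naturality_right, trans, trans, reassoc_of% hc,
    ← P.map_comp, hε, P.map_comp, Category.assoc]

lemma map_homEquiv_counit {L : A ⥤ B} {R : B ⥤ A} (adj : L ⊣ R) {T : A} {Z : B} (t : L.obj T ⟶ Z) :
    L.map (adj.homEquiv T Z t) ≫ adj.counit.app Z = t := by
  simp [adj.homEquiv_unit]

/-- transposes along isomorphic left adjoints -/
lemma exists_iso_transpose {L L' : A ⥤ B} {R R' : B ⥤ A} (adj : L ⊣ R) (adj' : L' ⊣ R') (k : L ≅ L') (Z : B) :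
    ∃ a : R'.obj Z ≅ R.obj Z, ∀ (T : A) (t : L'.obj T ⟶ Z),
      adj.homEquiv T Z (k.hom.app T ≫ t) = adj'.homEquiv T Z t ≫ a.hom := by
  let β : R'.obj Z ⟶ R.obj Z := adj.homEquiv _ _ (k.hom.app (R'.obj Z) ≫ adj'.counit.app Z)
  let β' : R.obj Z ⟶ R'.obj Z := adj'.homEquiv _ _ (k.inv.app (R.obj Z) ≫ adj.counit.app Z)
  have h : ∀ (T : A) (t : L'.obj T ⟶ Z), adj.homEquiv T Z (k.hom.app T ≫ t) = adj'.homEquiv T Z t ≫ β := fun T t => by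
    have e : k.hom.app T ≫ t = L.map (adj'.homEquiv T Z t) ≫ k.hom.app (R'.obj Z) ≫ adj'.counit.app Z := by
      rw [k.hom.naturality_assoc]
      exact congrArg (k.hom.app T ≫ ·) (map_homEquiv_counit adj' t).symm
    rw [e, adj.homEquiv_naturality_left]
  have h' : ∀ (T : A) (t : L.obj T ⟶ Z), adj'.homEquiv T Z (k.inv.app T ≫ t) = adj.homEquiv T Z t ≫ β' := fun T t => by
    have e : k.inv.app T ≫ t = L'.map (adj.homEquiv T Z t) ≫ k.inv.app (R.obj Z) ≫ adj.counit.app Z := by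
      rw [k.inv.naturality_assoc]
      exact congrArg (k.inv.app T ≫ ·) (map_homEquiv_counit adj t).symm
    rw [e, adj'.homEquiv_naturality_left]
  refine ⟨⟨β, β', ?_, ?_⟩, h⟩
  · have := (h' _ (k.hom.app (R'.obj Z) ≫ adj'.counit.app Z)).symm
    rw [Iso.inv_hom_id_app_assoc, adj'.homEquiv_unit, adj'.right_triangle_components] at this
    exact this
  · have := (h _ (k.inv.app (R.obj Z) ≫ adj.counit.app Z)).symm
    rw [Iso.hom_inv_id_app_assoc, adj.homEquiv_unit, adj.right_triangle_components] at this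
    exact this

end Defs

section Horizontal

variable {C₀ C₁ C₂ CX D₁ D₂ : Type*} [Category C₀] [Category C₁] [Category C₂] [Category CX] [Category D₁]
  [Category D₂] {F : C₀ ⥤ CX} {G₁ : C₀ ⥤ C₁} {G₂ : C₁ ⥤ C₂} {Gb : C₀ ⥤ C₂} {P₁ : CX ⥤ D₁} {P₂ : D₁ ⥤ D₂}
  {Pb : CX ⥤ D₂} {Q₁ : C₁ ⥤ D₁} {Q₂ : C₂ ⥤ D₂}

/-- compatibility of pasted squares -/
def PasteH (c₁ : G₁ ⋙ Q₁ ≅ F ⋙ P₁) (c₂ : G₂ ⋙ Q₂ ≅ Q₁ ⋙ P₂) (cb : Gb ⋙ Q₂ ≅ F ⋙ Pb) (kg : G₁ ⋙ G₂ ≅ Gb)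
    (kp : P₁ ⋙ P₂ ≅ Pb) : Prop :=
  ∀ T : C₀, Q₂.map (kg.hom.app T) ≫ cb.hom.app T =
    c₂.hom.app (G₁.obj T) ≫ P₂.map (c₁.hom.app T) ≫ kp.hom.app (F.obj T)

lemma pasteH_of_assoc {R₁ : C₀ ⥤ D₁} {R₂ : C₁ ⥤ D₂} {Rb : C₀ ⥤ D₂} {kg : G₁ ⋙ G₂ ≅ Gb} {kp : P₁ ⋙ P₂ ≅ Pb}
    {k₁ : G₁ ⋙ Q₁ ≅ R₁} {l₁ : F ⋙ P₁ ≅ R₁} {k₂ : G₂ ⋙ Q₂ ≅ R₂} {l₂ : Q₁ ⋙ P₂ ≅ R₂} {kb : Gb ⋙ Q₂ ≅ Rb}
    {lb : F ⋙ Pb ≅ Rb} {a : R₁ ⋙ P₂ ≅ Rb} {b : G₁ ⋙ R₂ ≅ Rb} (A₁ : AssocEq kg kb k₂ b) (A₂ : AssocEq k₁ a l₂ b)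
    (A₃ : AssocEq l₁ a kp lb) : PasteH (sqc k₁ l₁) (sqc k₂ l₂) (sqc kb lb) kg kp := fun T => by
  simp only [sqc, Iso.trans_hom, Iso.symm_hom, NatTrans.comp_app, Category.assoc, Functor.map_comp]
  rw [reassoc_of% (A₁ T)]
  congr 1
  have h₂ : l₂.inv.app (G₁.obj T) ≫ P₂.map (k₁.hom.app T) = b.hom.app T ≫ a.inv.app T := by
    rw [← cancel_mono (a.hom.app T), Category.assoc, A₂ T, Category.assoc, Iso.inv_hom_id_app, Category.comp_id,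
      Iso.inv_hom_id_app_assoc]
  have h₃ : P₂.map (l₁.inv.app T) ≫ kp.hom.app (F.obj T) = a.hom.app T ≫ lb.inv.app T := by
    rw [← cancel_epi (P₂.map (l₁.hom.app T)), ← P₂.map_comp_assoc, Iso.hom_inv_id_app, P₂.map_id, Category.id_comp,
      reassoc_of% (A₃ T), Iso.hom_inv_id_app]
    exact (Category.comp_id _).symm
  rw [reassoc_of% h₂, h₃, Iso.inv_hom_id_app_assoc]

variable {c₁ : G₁ ⋙ Q₁ ≅ F ⋙ P₁} {c₂ : G₂ ⋙ Q₂ ≅ Q₁ ⋙ P₂} {cb : Gb ⋙ Q₂ ≅ F ⋙ Pb} {kg : G₁ ⋙ G₂ ≅ Gb}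
  {kp : P₁ ⋙ P₂ ≅ Pb} {R : CX ⥤ C₀} {R₁ : D₁ ⥤ C₁} {R₂ : D₂ ⥤ C₂} (adj : F ⊣ R) (adj₁ : Q₁ ⊣ R₁) (adj₂ : Q₂ ⊣ R₂)

lemma bcm_pasteH (h : PasteH c₁ c₂ cb kg kp) (E : CX) :
    kg.hom.app (R.obj E) ≫ bcm cb adj adj₂ E =
      G₂.map (bcm c₁ adj adj₁ E) ≫ bcm c₂ adj₁ adj₂ (P₁.obj E) ≫ R₂.map (kp.hom.app E) := by
  rw [bcm, bcm, bcm, ← adj₂.homEquiv_naturality_left, ← adj₂.homEquiv_naturality_right,
    ← adj₂.homEquiv_naturality_left]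
  congr 1
  have n₂ : Q₂.map (G₂.map (adj₁.homEquiv _ _ (trans c₁ adj E))) ≫ c₂.hom.app (R₁.obj (P₁.obj E)) =
      c₂.hom.app (G₁.obj (R.obj E)) ≫ P₂.map (Q₁.map (adj₁.homEquiv _ _ (trans c₁ adj E))) := c₂.hom.naturality _
  have hp : P₂.map (P₁.map (adj.counit.app E)) ≫ kp.hom.app E =
      kp.hom.app (F.obj (R.obj E)) ≫ Pb.map (adj.counit.app E) := kp.hom.naturality _
  rw [show trans c₂ adj₁ (P₁.obj E) = c₂.hom.app (R₁.obj (P₁.obj E)) ≫ P₂.map (adj₁.counit.app (P₁.obj E)) from rfl,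
    Category.assoc]
  rw [reassoc_of% n₂, ← P₂.map_comp_assoc]
  erw [map_homEquiv_counit adj₁]
  rw [trans, trans, reassoc_of% (h (R.obj E)), Functor.map_comp, Category.assoc, hp]

lemma isIso_bcm_pasteH (h : PasteH c₁ c₂ cb kg kp) {E : CX} (h₁ : IsIso (bcm c₁ adj adj₁ E))
    (h₂ : IsIso (bcm c₂ adj₁ adj₂ (P₁.obj E))) : IsIso (bcm cb adj adj₂ E) := by
  have : IsIso (kg.hom.app (R.obj E) ≫ bcm cb adj adj₂ E) := by
    rw [bcm_pasteH adj adj₁ adj₂ h E]; infer_instance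
  exact IsIso.of_isIso_comp_left (kg.hom.app (R.obj E)) _

lemma isIso_bcm_right_of_pasteH (h : PasteH c₁ c₂ cb kg kp) {E : CX} (h₁ : IsIso (bcm c₁ adj adj₁ E))
    (hb : IsIso (bcm cb adj adj₂ E)) : IsIso (bcm c₂ adj₁ adj₂ (P₁.obj E)) := by
  have : IsIso (G₂.map (bcm c₁ adj adj₁ E) ≫ bcm c₂ adj₁ adj₂ (P₁.obj E) ≫ R₂.map (kp.hom.app E)) := by
    rw [← bcm_pasteH adj adj₁ adj₂ h E]; infer_instance
  have h' := IsIso.of_isIso_comp_left (G₂.map (bcm c₁ adj adj₁ E)) (bcm c₂ adj₁ adj₂ (P₁.obj E) ≫ R₂.map (kp.hom.app E))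
  exact IsIso.of_isIso_comp_right _ (R₂.map (kp.hom.app E))

lemma isIso_map_bcm_of_pasteH (h : PasteH c₁ c₂ cb kg kp) {E : CX} (h₂ : IsIso (bcm c₂ adj₁ adj₂ (P₁.obj E)))
    (hb : IsIso (bcm cb adj adj₂ E)) : IsIso (G₂.map (bcm c₁ adj adj₁ E)) := by
  have : IsIso (G₂.map (bcm c₁ adj adj₁ E) ≫ bcm c₂ adj₁ adj₂ (P₁.obj E) ≫ R₂.map (kp.hom.app E)) := by
    rw [← bcm_pasteH adj adj₁ adj₂ h E]; infer_instance
  exact IsIso.of_isIso_comp_right _ (bcm c₂ adj₁ adj₂ (P₁.obj E) ≫ R₂.map (kp.hom.app E))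

end Horizontal

section Vertical

variable {C₀ C₁ CX CU DX DU : Type*} [Category C₀] [Category C₁] [Category CX] [Category CU] [Category DX]
  [Category DU] {F : C₀ ⥤ CX} {G : C₀ ⥤ C₁} {P : CX ⥤ DX} {Q : C₁ ⥤ DX} {J : CX ⥤ CU} {J' : DX ⥤ DU}
  {PU : CU ⥤ DU} {FU : C₀ ⥤ CU} {QU : C₁ ⥤ DU}

/-- compatibility of stacked squares -/
def PasteV (cf : G ⋙ Q ≅ F ⋙ P) (cj : P ⋙ J' ≅ J ⋙ PU) (cU : G ⋙ QU ≅ FU ⋙ PU) (kf : F ⋙ J ≅ FU)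
    (kq : Q ⋙ J' ≅ QU) : Prop :=
  ∀ T : C₀, kq.hom.app (G.obj T) ≫ cU.hom.app T =
    J'.map (cf.hom.app T) ≫ cj.hom.app (F.obj T) ≫ PU.map (kf.hom.app T)

lemma pasteV_of_assoc {R : C₀ ⥤ DX} {R' : CX ⥤ DU} {RU : C₀ ⥤ DU} {kf : F ⋙ J ≅ FU} {kq : Q ⋙ J' ≅ QU}
    {k : G ⋙ Q ≅ R} {l : F ⋙ P ≅ R} {k' : P ⋙ J' ≅ R'} {l' : J ⋙ PU ≅ R'} {kU : G ⋙ QU ≅ RU}
    {lU : FU ⋙ PU ≅ RU} {a : R ⋙ J' ≅ RU} {b : F ⋙ R' ≅ RU} (A₁ : AssocEq k a kq kU) (A₂ : AssocEq l a k' b)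
    (A₃ : AssocEq kf lU l' b) : PasteV (sqc k l) (sqc k' l') (sqc kU lU) kf kq := fun T => by
  simp only [sqc, Iso.trans_hom, Iso.symm_hom, NatTrans.comp_app, Category.assoc, Functor.map_comp]
  rw [← reassoc_of% (A₁ T)]
  congr 1
  have h₃ : l'.inv.app (F.obj T) ≫ PU.map (kf.hom.app T) = b.hom.app T ≫ lU.inv.app T := by
    rw [← cancel_mono (lU.hom.app T), Category.assoc, A₃ T, Category.assoc, Iso.inv_hom_id_app, Category.comp_id,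
      Iso.inv_hom_id_app_assoc]
  rw [h₃, ← cancel_epi (J'.map (l.hom.app T)), ← J'.map_comp_assoc, Iso.hom_inv_id_app, J'.map_id, Category.id_comp,
    reassoc_of% (A₂ T)]

variable {cf : G ⋙ Q ≅ F ⋙ P} {cj : P ⋙ J' ≅ J ⋙ PU} {cU : G ⋙ QU ≅ FU ⋙ PU} {kf : F ⋙ J ≅ FU}
  {kq : Q ⋙ J' ≅ QU} {Rf : CX ⥤ C₀} {Rj : CU ⥤ CX} {RU : CU ⥤ C₀} {Rq : DX ⥤ C₁} {Rj' : DU ⥤ DX} {RQU : DU ⥤ C₁}
  (af : F ⊣ Rf) (aj : J ⊣ Rj) (aU : FU ⊣ RU) (aq : Q ⊣ Rq) (aj' : J' ⊣ Rj') (aQU : QU ⊣ RQU)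

lemma isIso_bcm_of_pasteV (h : PasteV cf cj cU kf kq) {E : CU} (hj : IsIso (bcm cj aj aj' E))
    (hU : IsIso (bcm cU aU aQU E)) : IsIso (bcm cf af aq (Rj.obj E)) := by
  obtain ⟨a, ha⟩ := exists_iso_transpose (af.comp aj) aU kf E
  obtain ⟨b, hb⟩ := exists_iso_transpose (aq.comp aj') aQU kq (PU.obj E)
  have ha' : J.map (F.map a.hom) ≫ J.map (af.counit.app (Rj.obj E)) ≫ aj.counit.app E =
      kf.hom.app (RU.obj E) ≫ aU.counit.app E := by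
    have := congrArg ((af.comp aj).homEquiv _ _).symm (ha _ (aU.counit.app E))
    rw [Equiv.symm_apply_apply, aU.homEquiv_unit, aU.right_triangle_components, Category.id_comp] at this
    rw [this, (af.comp aj).homEquiv_counit]
    simp [Adjunction.comp_counit_app]
  -- the transposes agree
  have e : J'.map (trans cf af (Rj.obj E)) ≫ trans cj aj E =
      kq.hom.app (G.obj (Rf.obj (Rj.obj E))) ≫ QU.map (G.map a.inv) ≫ trans cU aU E := by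
    have n₁ : (Q ⋙ J').map (G.map a.inv) ≫ kq.hom.app (G.obj (RU.obj E)) =
        kq.hom.app (G.obj (Rf.obj (Rj.obj E))) ≫ QU.map (G.map a.inv) := kq.hom.naturality _
    rw [← reassoc_of% n₁, trans, trans, trans, reassoc_of% (h (RU.obj E)), Functor.map_comp, Category.assoc]
    have m₁ : (Q ⋙ J').map (G.map a.inv) ≫ J'.map (cf.hom.app (RU.obj E)) =
        J'.map (cf.hom.app (Rf.obj (Rj.obj E))) ≫ J'.map (P.map (F.map a.inv)) := by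
      rw [Functor.comp_map, ← Functor.map_comp, ← Functor.map_comp]
      exact congrArg J'.map (cf.hom.naturality a.inv)
    rw [reassoc_of% m₁]
    congr 1
    have m₂ : J'.map (P.map (F.map a.inv)) ≫ cj.hom.app (F.obj (RU.obj E)) =
        cj.hom.app (F.obj (Rf.obj (Rj.obj E))) ≫ PU.map (J.map (F.map a.inv)) := cj.hom.naturality _
    have m₃ : J'.map (P.map (af.counit.app (Rj.obj E))) ≫ cj.hom.app (Rj.obj E) =
        cj.hom.app (F.obj (Rf.obj (Rj.obj E))) ≫ PU.map (J.map (af.counit.app (Rj.obj E))) := cj.hom.naturality _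
    rw [reassoc_of% m₂, reassoc_of% m₃, ← PU.map_comp, ← PU.map_comp, ← PU.map_comp]
    congr 2
    rw [← cancel_epi (J.map (F.map a.hom)), ha', ← Functor.map_comp_assoc, ← Functor.map_comp, Iso.hom_inv_id,
      CategoryTheory.Functor.map_id, CategoryTheory.Functor.map_id, Category.id_comp]
  have E₁ : (aq.comp aj').homEquiv _ _ (J'.map (trans cf af (Rj.obj E)) ≫ trans cj aj E) =
      bcm cf af aq (Rj.obj E) ≫ Rq.map (bcm cj aj aj' E) := by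
    rw [bcm, bcm, ← aq.homEquiv_naturality_right]
    simp only [Adjunction.comp_homEquiv, Equiv.trans_apply]
    exact congrArg _ (aj'.homEquiv_naturality_left _ _)
  rw [e, hb, aQU.homEquiv_naturality_left] at E₁
  have : IsIso (bcm cf af aq (Rj.obj E) ≫ Rq.map (bcm cj aj aj' E)) := by
    rw [← E₁]
    change IsIso ((G.map a.inv ≫ bcm cU aU aQU E) ≫ b.hom)
    infer_instance
  exact IsIso.of_isIso_comp_right _ (Rq.map (bcm cj aj aj' E))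

/-- an adjoint equivalence on the right gives base change -/
lemma isIso_bcm_of_equivalence {A B C D : Type*} [Category A] [Category B] [Category C] [Category D] {G : A ⥤ B}
    {Q : B ⥤ D} {F : A ⥤ C} {P : C ⥤ D} (c : G ⋙ Q ≅ F ⋙ P) {R : C ⥤ A} (adj : F ⊣ R) {Rq : D ⥤ B}
    (adjq : Q ⊣ Rq) (E : C) [IsIso (adj.counit.app E)] [∀ T, IsIso (adjq.unit.app T)] : IsIso (bcm c adj adjq E) := by
  rw [bcm, adjq.homEquiv_unit, trans]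
  infer_instance

end Vertical

end

end Groth.Agent.CohBase.TorBC
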