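import Groth.Agent.CohBase.TorBC.Paste
import Groth.Agent.KFlat.RPushTriangle
import Mathlib.CategoryTheory.Triangulated.Yoneda

/-!
# Base change morphisms and triangles
-/

set_option autoImplicit false
set_option backward.isDefEq.respectTransparency false
set_option backward.isDefEq.respectTransparency.types false

universe u

open CategoryTheory CategoryTheory.Limits AlgebraicGeometry CategoryTheory.Pretriangulated ZeroObject
open Groth.Agent.KFlat.Pull

attribute [local instance] HasDerivedCategory.standard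

namespace Groth.Agent.CohBase.TorBC

noncomputable section

section Abstract

variable {C D D' : Type*} [Category C] [Category D] [Category D'] [HasZeroObject C] [HasShift C ℤ] [Preadditive C]
  [∀ n : ℤ, (shiftFunctor C n).Additive] [Pretriangulated C] [HasZeroObject D] [HasShift D ℤ] [Preadditive D]
  [∀ n : ℤ, (shiftFunctor D n).Additive] [Pretriangulated D] [HasZeroObject D'] [HasShift D' ℤ] [Preadditive D']
  [∀ n : ℤ, (shiftFunctor D' n).Additive] [Pretriangulated D']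

/-- images of triangles extend to triangles -/
def Ex (F : C ⥤ D) : Prop :=
  ∀ T ∈ distTriang C, ∃ δ, Triangle.mk (F.map T.mor₁) (F.map T.mor₂) δ ∈ distTriang D

lemma Ex.comp {F : C ⥤ D} {G : D ⥤ D'} (hF : Ex F) (hG : Ex G) : Ex (F ⋙ G) := fun T hT => by
  obtain ⟨δ, hδ⟩ := hF T hT
  exact hG _ hδ

lemma Ex.zero₁₂ {F : C ⥤ D} (hF : Ex F) (T : Triangle C) (hT : T ∈ distTriang C) : F.map T.mor₁ ≫ F.map T.mor₂ = 0 := by
  obtain ⟨δ, hδ⟩ := hF T hT
  exact comp_distTriang_mor_zero₁₂ _ hδ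

lemma Ex.exact {F : C ⥤ D} (hF : Ex F) (T : Triangle C) (hT : T ∈ distTriang C) {P : D} (x : P ⟶ F.obj T.obj₂)
    (hx : x ≫ F.map T.mor₂ = 0) : ∃ y : P ⟶ F.obj T.obj₁, x = y ≫ F.map T.mor₁ := by
  obtain ⟨δ, hδ⟩ := hF T hT
  exact Triangle.coyoneda_exact₂ _ hδ x hx

/-- five lemma for a natural family between exact functors -/
theorem isIso_obj₁ {F G : C ⥤ D} (hF : Ex F) (hG : Ex G) (η : F ⟶ G) (T : Triangle C) (hT : T ∈ distTriang C)
    (h₂ : IsIso (η.app T.obj₂)) (h₃ : IsIso (η.app T.obj₃))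
    (h₂' : IsIso (η.app T.invRotate.invRotate.obj₁)) (h₃' : IsIso (η.app T.invRotate.obj₁)) :
    IsIso (η.app T.obj₁) := by
  have hT' : T.invRotate ∈ distTriang C := inv_rot_of_distTriang _ hT
  have hT'' : T.invRotate.invRotate ∈ distTriang C := inv_rot_of_distTriang _ hT'
  have hb : ∀ P : D, Function.Bijective fun x : P ⟶ F.obj T.obj₁ => x ≫ η.app T.obj₁ := fun P => by
    refine ⟨fun x x' hxx => ?_, fun y => ?_⟩
    · have key : ∀ z : P ⟶ F.obj T.obj₁, z ≫ η.app T.obj₁ = 0 → z = 0 := fun z hz => by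
        have h0 : z ≫ F.map T.mor₁ = 0 := by
          rw [← cancel_mono (η.app T.obj₂), Category.assoc, η.naturality, reassoc_of% hz, zero_comp, zero_comp]
        obtain ⟨a, ha⟩ := hF.exact T.invRotate hT' z h0
        have h1 : (a ≫ η.app T.invRotate.obj₁) ≫ G.map T.invRotate.mor₁ = 0 := by
          rw [Category.assoc, ← η.naturality, ← Category.assoc, ← ha]
          exact hz
        obtain ⟨c, hc⟩ := hG.exact T.invRotate.invRotate hT'' (a ≫ η.app T.invRotate.obj₁) h1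
        have ha' : a = (c ≫ inv (η.app T.invRotate.invRotate.obj₁)) ≫ F.map T.invRotate.invRotate.mor₁ := by
          refine (cancel_mono (η.app T.invRotate.obj₁)).1 (hc.trans ?_)
          rw [Category.assoc]
          have n : F.map T.invRotate.invRotate.mor₁ ≫ η.app T.invRotate.obj₁ =
              η.app T.invRotate.invRotate.obj₁ ≫ G.map T.invRotate.invRotate.mor₁ := η.naturality _
          erw [n]
          rw [Category.assoc, IsIso.inv_hom_id_assoc]
        rw [ha, ha', Category.assoc]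
        exact (congrArg (_ ≫ ·) (hF.zero₁₂ _ hT'')).trans comp_zero
      rw [← sub_eq_zero]
      exact key _ (by rw [Preadditive.sub_comp]; exact sub_eq_zero.2 hxx)
    · obtain ⟨x₂, hx₂⟩ : ∃ x₂ : P ⟶ F.obj T.obj₂, x₂ ≫ η.app T.obj₂ = y ≫ G.map T.mor₁ :=
        ⟨(y ≫ G.map T.mor₁) ≫ inv (η.app T.obj₂), by simp⟩
      have h0 : x₂ ≫ F.map T.mor₂ = 0 := by
        rw [← cancel_mono (η.app T.obj₃), Category.assoc, η.naturality, reassoc_of% hx₂, hG.zero₁₂ T hT, comp_zero,
          zero_comp]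
      obtain ⟨x₁, hx₁⟩ := hF.exact T hT x₂ h0
      have h1 : (y - x₁ ≫ η.app T.obj₁) ≫ G.map T.mor₁ = 0 := by
        rw [Preadditive.sub_comp, Category.assoc, ← η.naturality, ← Category.assoc, ← hx₁, hx₂, sub_self]
      obtain ⟨b, hb⟩ := hG.exact T.invRotate hT' (y - x₁ ≫ η.app T.obj₁) h1
      refine ⟨x₁ + (show P ⟶ F.obj T.obj₁ from (b ≫ inv (η.app T.invRotate.obj₁)) ≫ F.map T.invRotate.mor₁), ?_⟩
      have n : F.map T.invRotate.mor₁ ≫ η.app T.obj₁ = η.app T.invRotate.obj₁ ≫ G.map T.invRotate.mor₁ := η.naturality _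
      change (_ + _) ≫ η.app T.obj₁ = y
      rw [Preadditive.add_comp, Category.assoc, n, Category.assoc, IsIso.inv_hom_id_assoc]
      erw [← hb]
      exact add_sub_cancel _ y
  obtain ⟨x, hx⟩ := (hb (G.obj T.obj₁)).2 (𝟙 _)
  exact ⟨x, (hb (F.obj T.obj₁)).1 (by simp only [Category.assoc, hx, Category.comp_id, Category.id_comp]), hx⟩

/-- the object-level compatibility with shifts -/
lemma Ex.nonempty_shift {F : C ⥤ D} (hF : Ex F) (h0 : ∀ Z : C, IsZero Z → IsZero (F.obj Z)) (E : C) :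
    Nonempty (F.obj (E⟦(1 : ℤ)⟧) ≅ (F.obj E)⟦(1 : ℤ)⟧) := by
  obtain ⟨δ, hδ⟩ := hF _ (rot_of_distTriang _ (contractible_distinguished E))
  have hz : IsZero (F.obj (0 : C)) := h0 _ (isZero_zero C)
  have h1 := rot_of_distTriang _ hδ
  exact ⟨@asIso _ _ _ _ δ ((Triangle.isZero₁_iff_isIso₂ _ h1).1 hz)⟩

end Abstract

variable {X Y B₀ B₁ X' : Scheme.{u}}

lemma ex_Rpush (f : X ⟶ Y) : Ex (DCoh.Rpush f) := fun T hT => KFlat.RPushTriangle.distinguished_Rpush f T hT

lemma ex_Lpull (f : X ⟶ Y) : Ex (DCoh.Lpull f) := fun T hT => by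
  obtain ⟨K₁, K₂, φ, ⟨e₀⟩⟩ := (DerivedCategory.mem_distTriang_iff T).1 hT
  let r := (resY Y).map φ
  have q₁ := quasiIso_resYπ (Y := Y) K₁
  have q₂ := quasiIso_resYπ (Y := Y) K₂
  let j₁ := asIso (DerivedCategory.Q.map ((resYπ Y).app K₁))
  let j₂ := asIso (DerivedCategory.Q.map ((resYπ Y).app K₂))
  let e : T ≅ DerivedCategory.Q.mapTriangle.obj (CochainComplex.mappingCone.triangle r) :=
    e₀ ≪≫ (isoTriangleOfIso₁₂ _ _ (DerivedCategory.mappingCone_triangle_distinguished _)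
      (DerivedCategory.mappingCone_triangle_distinguished _) j₁ j₂
      ((DerivedCategory.Q.map_comp _ _).symm.trans
        ((congrArg DerivedCategory.Q.map ((resYπ Y).naturality φ)).trans (DerivedCategory.Q.map_comp _ _)))).symm
  let a₁ := @asIso _ _ _ _ _ (isIso_toPull f (P := (resY Y).obj K₁) (isKFlat_resY K₁))
  let a₂ := @asIso _ _ _ _ _ (isIso_toPull f (P := (resY Y).obj K₂) (isKFlat_resY K₂))
  let a₃ := @asIso _ _ _ _ _ (isIso_toPull f (P := CochainComplex.mappingCone r)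
    (Groth.Agent.KFlat.isKFlat_mappingCone (O := Y.sheaf) r (isKFlat_resY K₁) (isKFlat_resY K₂)))
  let eC := DerivedCategory.Q.mapIso
    (CochainComplex.mappingCone.mapHomologicalComplexIso r (Scheme.Modules.pullback f))
  let T' := DerivedCategory.Q.mapTriangle.obj (CochainComplex.mappingCone.triangle ((pullCx f).map r))
  have hT' : T' ∈ distTriang _ := DerivedCategory.mappingCone_triangle_distinguished _
  have he : DerivedCategory.Q.map ((pullCx f).map (CochainComplex.mappingCone.inr r)) ≫ eC.hom = T'.mor₂ :=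
    (DerivedCategory.Q.map_comp _ _).symm.trans (congrArg DerivedCategory.Q.map
      (CochainComplex.mappingCone.map_inr r (Scheme.Modules.pullback f)))
  have c₂ : (DCoh.Lpull f).map (DerivedCategory.Q.map (CochainComplex.mappingCone.inr r)) ≫ (a₃ ≪≫ eC).hom =
      a₂.hom ≫ T'.mor₂ := by
    refine (Category.assoc _ _ _).symm.trans ((congrArg (· ≫ eC.hom) ((toPull f).naturality
      (CochainComplex.mappingCone.inr r))).trans ?_)
    exact (Category.assoc _ _ _).trans (congrArg (a₂.hom ≫ ·) he)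
  obtain ⟨δ, hδ⟩ := KFlat.RPushTriangle.exists_distinguished_of_iso T' hT'
    ((DCoh.Lpull f).map (DerivedCategory.Q.map r))
    ((DCoh.Lpull f).map (DerivedCategory.Q.map (CochainComplex.mappingCone.inr r))) a₁ a₂ (a₃ ≪≫ eC)
    ((toPull f).naturality r) c₂
  exact KFlat.RPushTriangle.exists_distinguished_of_iso _ hδ _ _ ((DCoh.Lpull f).mapIso (Triangle.π₁.mapIso e))
    ((DCoh.Lpull f).mapIso (Triangle.π₂.mapIso e)) ((DCoh.Lpull f).mapIso (Triangle.π₃.mapIso e))
    ((((DCoh.Lpull f).map_comp _ _).symm.trans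
      ((congrArg (DCoh.Lpull f).map e.hom.comm₁).trans ((DCoh.Lpull f).map_comp _ _))))
    ((((DCoh.Lpull f).map_comp _ _).symm.trans
      ((congrArg (DCoh.Lpull f).map e.hom.comm₂).trans ((DCoh.Lpull f).map_comp _ _))))

variable {f : X ⟶ B₀} {g : B₁ ⟶ B₀} {p : X' ⟶ X} {q : X' ⟶ B₁} {w : p ≫ f = q ≫ g}

theorem IsBC.of_iso {E E' : DCoh.D X} (e : E ≅ E') (h : IsBC f g p q w E) : IsBC f g p q w E' := by
  delta IsBC bc at h ⊢
  have hn := bcm_naturality (sq f g p q w) (KFlat.DerivedAdj.adj f) (KFlat.DerivedAdj.adj q) e.hom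
  have : IsIso (bcm (sq f g p q w) (KFlat.DerivedAdj.adj f) (KFlat.DerivedAdj.adj q) E) := h
  have h2 : IsIso ((DCoh.Lpull g).map ((DCoh.Rpush f).map e.hom) ≫
      bcm (sq f g p q w) (KFlat.DerivedAdj.adj f) (KFlat.DerivedAdj.adj q) E') := by
    rw [hn]; infer_instance
  exact IsIso.of_isIso_comp_left ((DCoh.Lpull g).map ((DCoh.Rpush f).map e.hom))
    (bcm (sq f g p q w) (KFlat.DerivedAdj.adj f) (KFlat.DerivedAdj.adj q) E')

variable (f g p q w) in
/-- the base change transformation -/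
def bcNat : DCoh.Rpush f ⋙ DCoh.Lpull g ⟶ DCoh.Lpull p ⋙ DCoh.Rpush q where
  app E := bc f g p q w E
  naturality _ _ φ := bcm_naturality (sq f g p q w) (KFlat.DerivedAdj.adj f) (KFlat.DerivedAdj.adj q) φ

theorem isBC_obj₁ (T : Triangle (DCoh.D X)) (hT : T ∈ distTriang (DCoh.D X)) (h₂ : IsBC f g p q w T.obj₂)
    (h₃ : IsBC f g p q w T.obj₃) (h₂' : IsBC f g p q w (T.obj₂⟦(-1 : ℤ)⟧))
    (h₃' : IsBC f g p q w (T.obj₃⟦(-1 : ℤ)⟧)) : IsBC f g p q w T.obj₁ :=
  isIso_obj₁ ((ex_Rpush f).comp (ex_Lpull g)) ((ex_Lpull p).comp (ex_Rpush q)) (bcNat f g p q w) T hT h₂ h₃ h₂' h₃'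

end

end Groth.Agent.CohBase.TorBC
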