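import Groth.Agent.CohBase.TorBC.OnComplex
import Groth.Agent.CohBase.TorBC.Exact
import Groth.Agent.DRing.BCCmp.QIso
import Groth.Agent.KFlat.TildeBC
import Groth.Agent.KFlat.TildeD
import Groth.Agent.PCohD.RelRing

/-!
# Tor-independent base change over affine schemes
-/

set_option autoImplicit false
set_option backward.isDefEq.respectTransparency false
set_option backward.isDefEq.respectTransparency.types false
set_option linter.style.haveILetI false

universe u

open CategoryTheory CategoryTheory.Limits AlgebraicGeometry TopologicalSpace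
open Groth.Agent.KFlat.Pull Groth.Agent.CohBase.FlatBC.D Groth.Agent.KFlat.RPush Groth.Agent.KFlat.WeakKInj

attribute [local instance] HasDerivedCategory.standard

namespace Groth.Agent.CohBase.TorBC

noncomputable section

/-- `Tor_i^A(B, C) = 0` for `i > 0` -/
def TorInd {A B C : CommRingCat.{u}} (φ : A ⟶ B) (ψ : A ⟶ C) : Prop :=
  ∀ i : ℕ, 0 < i → Subsingleton (@DRing.Tor A _ i B C _ φ.hom.toModule _ ψ.hom.toModule)

lemma subsingleton_tor_flip {A : Type u} [CommRing A] (M N : Type u) [AddCommGroup M] [Module A M] [AddCommGroup N]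
    [Module A N] (i : ℕ) [h : Subsingleton (DRing.Tor A i M N)] : Subsingleton (DRing.Tor A i N M) :=
  haveI : Subsingleton (((CategoryTheory.Tor (ModuleCat.{u} A) i).flip.obj (ModuleCat.of A N)).obj (ModuleCat.of A M)) := h
  (((CAlgLib.TorBalance.torFlipIso A i).app (ModuleCat.of A N)).app (ModuleCat.of A M)).toLinearEquiv.toEquiv.subsingleton

lemma quasiIso_pullCx_tilde {A B : CommRingCat.{u}} (φ : A ⟶ B) {K L : DRing.Cx A} (π : K ⟶ L)
    [h : QuasiIso ((DRing.LTensor.extCx φ.hom).map π)] :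
    QuasiIso ((pullCx (Spec.map φ)).map ((KFlat.TildeBC.tC A).map π)) := by
  have := KFlat.TildeExact.preservesFiniteLimits_tilde B
  have h2 : QuasiIso ((DRing.LTensor.extCx φ.hom ⋙ KFlat.TildeBC.tC B).map π) := by
    have := Functor.preservesHomologyOfExact (tilde.functor B)
    change QuasiIso ((KFlat.TildeBC.tC B).map ((DRing.LTensor.extCx φ.hom).map π))
    exact (HomologicalComplex.quasiIso_map_iff_of_preservesHomology _ (tilde.functor B)).2 h
  have e := (KFlat.TildeBC.cxPullIso φ).hom.naturality π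
  have : QuasiIso (((KFlat.TildeBC.tC A) ⋙ pullCx (Spec.map φ)).map π ≫ (KFlat.TildeBC.cxPullIso φ).hom.app L) := by
    rw [e]; infer_instance
  exact quasiIso_of_comp_right (((KFlat.TildeBC.tC A) ⋙ pullCx (Spec.map φ)).map π)
    ((KFlat.TildeBC.cxPullIso φ).hom.app L)

lemma isIso_unit_restrict {X Y : Scheme.{u}} (h : X ⟶ Y) [IsIso h] (N : Y.Modules) :
    IsIso ((Scheme.Modules.restrictAdjunction h).unit.app N) := by
  rw [Scheme.Modules.Hom.isIso_iff_isIso_app]
  intro O
  rw [ConcreteCategory.isIso_iff_bijective]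
  refine KFlat.MVSheaf.bijective_map_of_eq N _ ?_
  change h ''ᵁ h ⁻¹ᵁ O = O
  rw [Scheme.Hom.image_preimage_eq_opensRange_inf, Scheme.Hom.opensRange_of_isIso, top_inf_eq]

/-- `f_* h^* = (hf)_*` for an isomorphism `h` -/
def pullPushIso {X Y Z : Scheme.{u}} (h : X ⟶ Y) [IsIso h] (k : Y ⟶ Z) (f : X ⟶ Z) (e : h ≫ k = f) :
    Scheme.Modules.pullback h ⋙ Scheme.Modules.pushforward f ≅ Scheme.Modules.pushforward k :=
  Functor.isoWhiskerRight (Scheme.Modules.restrictFunctorIsoPullback h).symm _ ≪≫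
    Functor.isoWhiskerLeft _ ((Scheme.Modules.pushforwardComp h k ≪≫ Scheme.Modules.pushforwardCongr e).symm) ≪≫
    (Functor.associator _ _ _).symm ≪≫
    Functor.isoWhiskerRight (@asIso _ _ _ _ (Scheme.Modules.restrictAdjunction h).unit
      (@NatIso.isIso_of_isIso_app _ _ _ _ _ _ _ (isIso_unit_restrict h))).symm _ ≪≫
    Functor.leftUnitor _

lemma nonempty_Lpull_id {X : Scheme.{u}} (E : DCoh.D X) : Nonempty ((DCoh.Lpull (𝟙 X)).obj E ≅ E) := by
  let T := (resY X).obj (DerivedCategory.Q.objPreimage E)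
  have := quasiIso_resYπ (Y := X) (DerivedCategory.Q.objPreimage E)
  let i : (DerivedCategory.Q.obj T : DCoh.D X) ≅ E :=
    asIso (DerivedCategory.Q.map ((resYπ X).app (DerivedCategory.Q.objPreimage E))) ≪≫
      DerivedCategory.Q.objObjPreimageIso E
  have := isIso_toPull (𝟙 X) (P := T) (isKFlat_resY _)
  let c : (pullCx (𝟙 X)).obj T ≅ T := HomologicalComplex.Hom.isoOfComponents
    (fun n => (Scheme.Modules.pullbackId X).app (T.X n))
    (fun i j _ => ((Scheme.Modules.pullbackId X).hom.naturality (T.d i j)).symm)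
  exact ⟨(DCoh.Lpull (𝟙 X)).mapIso i.symm ≪≫ asIso ((toPull (𝟙 X)).app T) ≪≫ DerivedCategory.Q.mapIso c ≪≫ i⟩

variable {X X' : Scheme.{u}} {A B : CommRingCat.{u}} {f : X ⟶ Spec A} {φ : A ⟶ B} {p : X' ⟶ X} {q : X' ⟶ Spec B}

/-- Tor-independent base change when all schemes are affine -/
theorem isBC_affine [IsAffine X] (H : IsPullback p q f (Spec.map φ))
    (htor : ∀ (C : CommRingCat.{u}) (k : Spec C ⟶ X) [IsOpenImmersion k] (ψ : A ⟶ C),
      Spec.map ψ = k ≫ f → TorInd φ ψ) (E : DCoh.D X) (hE : DCoh.IsQCohD E) :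
    IsBC f (Spec.map φ) p q H.w E := by
  let C := Γ(X, ⊤)
  let h : X ⟶ Spec C := X.isoSpec.hom
  let ψ : A ⟶ C := Spec.preimage (X.isoSpec.inv ≫ f)
  have hψ : Spec.map ψ = X.isoSpec.inv ≫ f := Spec.map_preimage _
  have hf : h ≫ Spec.map ψ = f := by rw [hψ, Iso.hom_inv_id_assoc]
  have := KFlat.TildeExact.preservesFiniteLimits_tilde C
  have := KFlat.TildeExact.preservesFiniteLimits_tilde A
  -- a model complex
  obtain ⟨M, ⟨eM⟩⟩ := KFlat.TildeD.exists_iso_of_isQCohD (R := C) ((DCoh.Lpull X.isoSpec.inv).obj E)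
    (KFlat.QCohModel.isQCohD_Lpull X.isoSpec.inv E hE)
  obtain ⟨P, hP, -, ⟨eP⟩⟩ := Groth.Agent.DRing.DBasic.exists_kproj_iso M
  let T := (KFlat.TildeBC.tC C).obj P
  have hT : DCoh.IsKFlat T :=
    KFlat.TildeKFlat.isKFlat_tilde C P (Groth.Agent.DRing.KFlat.isKFlat_of_isKProjective P)
  let K := (pullCx h).obj T
  let e₁ : (DerivedCategory.Q.obj T : DCoh.D (Spec C)) ≅ (DCoh.Lpull X.isoSpec.inv).obj E :=
    ((tilde.functor C).mapDerivedCategoryFactors.app P).symm ≪≫ (DCoh.tildeD C).mapIso (eP : DerivedCategory.Q.obj P ≅ M) ≪≫ eM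
  have := isIso_toPull h (P := T) hT
  let eE : (DerivedCategory.Q.obj K : DCoh.D X) ≅ E :=
    (asIso ((toPull h).app T)).symm ≪≫ (DCoh.Lpull h).mapIso e₁ ≪≫
      (Kc h X.isoSpec.inv (𝟙 X) X.isoSpec.hom_inv_id).app E ≪≫ (nonempty_Lpull_id E).some
  have hK : ∀ n, (K.X n).IsQuasicoherent := fun n =>
    have : SheafOfModules.IsQuasicoherent.{u} ((tilde.functor C).obj (P.X n)) :=
      KFlat.TildeD.isQuasicoherent_of_essImage ⟨P.X n, ⟨Iso.refl _⟩⟩
    inferInstanceAs ((Scheme.Modules.pullback h).obj ((tilde.functor C).obj (P.X n))).IsQuasicoherent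
  have : IsAffineHom f := isAffineHom_of_isAffine f
  -- the direct image
  let R₀ := (DRing.restrictCx ψ.hom).obj P
  let η : tilde.functor C ⋙ Scheme.Modules.pullback h ⋙ Scheme.Modules.pushforward f ≅
      ModuleCat.restrictScalars.{u} ψ.hom ⋙ tilde.functor A :=
    Functor.isoWhiskerLeft _ (pullPushIso h (Spec.map ψ) f hf) ≪≫ PCohD.pushTildeIso ψ
  let eη : (pushCx f).obj K ≅ (KFlat.TildeBC.tC A).obj R₀ :=
    HomologicalComplex.Hom.isoOfComponents (fun n => η.app (P.X n))
      (fun i j _ => (η.hom.naturality (P.d i j)).symm)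
  obtain ⟨G, π, hG, -, hπ, -⟩ := Groth.Agent.DRing.KProjRes.exists_resolution R₀
  -- Tor independence
  have hC : TorInd φ ψ := htor C X.isoSpec.inv ψ hψ
  have hext : QuasiIso ((DRing.LTensor.extCx φ.hom).map π) := by
    letI := φ.hom.toAlgebra
    letI := ψ.hom.toAlgebra
    exact Groth.Agent.DRing.BCCmp.quasiIso_extend (R := A) (A := C) B
      (fun i hi => @subsingleton_tor_flip A _ B C _ φ.hom.toModule _ ψ.hom.toModule i (hC i hi)) P π
  let α : (KFlat.TildeBC.tC A).obj G ⟶ (pushCx f).obj K := (KFlat.TildeBC.tC A).map π ≫ eη.inv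
  have hα : QuasiIso α := by
    have := Functor.preservesHomologyOfExact (tilde.functor A)
    have : QuasiIso ((KFlat.TildeBC.tC A).map π) :=
      (HomologicalComplex.quasiIso_map_iff_of_preservesHomology π (tilde.functor A)).2 hπ
    infer_instance
  have hα' : QuasiIso ((pullCx (Spec.map φ)).map α) := by
    have := quasiIso_pullCx_tilde φ π
    rw [Functor.map_comp]
    infer_instance
  have hg : IsIso ((toPull (Spec.map φ)).app ((pushCx f).obj K)) := by
    have hG' := isIso_toPull (Spec.map φ) (P := (KFlat.TildeBC.tC A).obj G)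
      (KFlat.TildeKFlat.isKFlat_tilde A G (Groth.Agent.DRing.KFlat.isKFlat_of_isKProjective G))
    have hn := (toPull (Spec.map φ)).naturality α
    have h1 : IsIso ((DCoh.Lpull (Spec.map φ)).map (DerivedCategory.Q.map α)) := inferInstance
    have h2 : IsIso ((pullQ (Spec.map φ)).map α) :=
      inferInstanceAs (IsIso (DerivedCategory.Q.map ((pullCx (Spec.map φ)).map α)))
    have : IsIso ((DerivedCategory.Q ⋙ DCoh.Lpull (Spec.map φ)).map α ≫
        (toPull (Spec.map φ)).app ((pushCx f).obj K)) := by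
      rw [hn]; infer_instance
    have : IsIso ((DerivedCategory.Q ⋙ DCoh.Lpull (Spec.map φ)).map α) := h1
    exact IsIso.of_isIso_comp_left ((DerivedCategory.Q ⋙ DCoh.Lpull (Spec.map φ)).map α) _
  exact IsBC.of_iso eE (isBC_of_complex H K hK (isKFlat_pullCx h hT) hg)

end

end Groth.Agent.CohBase.TorBC
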