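import Groth.Agent.CohBase.FlatBC.DTau

/-!
# Associativity of composition of derived inverse images, pasting of squares
-/

set_option autoImplicit false
set_option backward.isDefEq.respectTransparency false
set_option backward.isDefEq.respectTransparency.types false
set_option linter.style.haveILetI false

universe u

open CategoryTheory CategoryTheory.Limits AlgebraicGeometry DerivedCategory
open Groth.Agent.KFlat.Pull Groth.Agent.CohBase.FlatBC.D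

attribute [local instance] HasDerivedCategory.standard

namespace Groth.Agent.CohBase.TorBC

noncomputable section

instance hasLpull_inst {X Y : Scheme.{u}} (f : X ⟶ Y) : DCoh.HasLpull f := hasLpull f
instance hasRpush_inst {X Y : Scheme.{u}} (f : X ⟶ Y) : DCoh.HasRpush f := KFlat.RPush.hasRpush f

variable {W X Y Z : Scheme.{u}}

/-- composition of inverse images of complexes along a composite named `r` -/
def cxComp (h : X ⟶ Y) (k : Y ⟶ Z) (r : X ⟶ Z) (e : h ≫ k = r) : pullCx k ⋙ pullCx h ≅ pullCx r :=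
  pullCxComp h k ≪≫ eqToIso (by subst e; rfl)

lemma cxComp_f (h : X ⟶ Y) (k : Y ⟶ Z) (r : X ⟶ Z) (e : h ≫ k = r) (K : CochainComplex Z.Modules ℤ) (n : ℤ) :
    ((cxComp h k r e).hom.app K).f n = (pullbackComp' h k r e).hom.app (K.X n) := by
  subst e
  simp [cxComp, pullbackComp', pullCxComp, Scheme.Modules.pullbackCongr]

/-- `Lh^* Lk^* = Lr^*` on a complex -/
lemma toPull_comp' (h : X ⟶ Y) (k : Y ⟶ Z) (r : X ⟶ Z) (e : h ≫ k = r) (K : CochainComplex Z.Modules ℤ) :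
    (lpullCompIso' h k r e).hom.app (Q.obj K) ≫ (toPull r).app K =
      (DCoh.Lpull h).map ((toPull k).app K) ≫ (toPull h).app ((pullCx k).obj K) ≫
        Q.map ((cxComp h k r e).hom.app K) := by
  subst e
  simp only [lpullCompIso', lpullCongr, eqToIso_refl, Iso.trans_refl, cxComp]
  exact toPull_comp h k K

/-- compatibility of a composition isomorphism with comparison maps to termwise functors -/
def CompEq {A₀ A₁ A₂ C₀ C₁ C₂ : Type*} [Category A₀] [Category A₁] [Category A₂] [Category C₀] [Category C₁]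
    [Category C₂] {Q₀ : A₀ ⥤ C₀} {Q₁ : A₁ ⥤ C₁} {Q₂ : A₂ ⥤ C₂} {Pl : A₀ ⥤ A₁} {Pk : A₁ ⥤ A₂} {Pr : A₀ ⥤ A₂}
    {Ll : C₀ ⥤ C₁} {Lk : C₁ ⥤ C₂} {Lr : C₀ ⥤ C₂} (σ : Ll ⋙ Lk ≅ Lr) (tl : Q₀ ⋙ Ll ⟶ Pl ⋙ Q₁)
    (tk : Q₁ ⋙ Lk ⟶ Pk ⋙ Q₂) (tr : Q₀ ⋙ Lr ⟶ Pr ⋙ Q₂) (c : Pl ⋙ Pk ≅ Pr) (K : A₀) : Prop :=
  σ.hom.app (Q₀.obj K) ≫ tr.app K = Lk.map (tl.app K) ≫ tk.app (Pl.obj K) ≫ Q₂.map (c.hom.app K)

lemma compEq_of (K : CochainComplex Z.Modules ℤ) (Ll : DCoh.D Z ⥤ DCoh.D Y) (Lk : DCoh.D Y ⥤ DCoh.D X)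
    (Lr : DCoh.D Z ⥤ DCoh.D X) (Pl : CochainComplex Z.Modules ℤ ⥤ CochainComplex Y.Modules ℤ)
    (Pk : CochainComplex Y.Modules ℤ ⥤ CochainComplex X.Modules ℤ)
    (Pr : CochainComplex Z.Modules ℤ ⥤ CochainComplex X.Modules ℤ) (σ : Ll ⋙ Lk ≅ Lr)
    (tl : DerivedCategory.Q ⋙ Ll ⟶ Pl ⋙ DerivedCategory.Q) (tk : DerivedCategory.Q ⋙ Lk ⟶ Pk ⋙ DerivedCategory.Q)
    (tr : DerivedCategory.Q ⋙ Lr ⟶ Pr ⋙ DerivedCategory.Q) (c : Pl ⋙ Pk ≅ Pr)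
    (E : σ.hom.app (Q.obj K) ≫ tr.app K = Lk.map (tl.app K) ≫ tk.app (Pl.obj K) ≫ Q.map (c.hom.app K)) :
    CompEq σ tl tk tr c K := E

lemma compEq_pull (h : X ⟶ Y) (k : Y ⟶ Z) (r : X ⟶ Z) (e : h ≫ k = r) (K : CochainComplex Z.Modules ℤ) :
    CompEq (lpullCompIso' h k r e) (toPull k) (toPull h) (toPull r) (cxComp h k r e) K :=
  compEq_of K (DCoh.Lpull k) (DCoh.Lpull h) (DCoh.Lpull r) (pullCx k) (pullCx h) (pullCx r)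
    (lpullCompIso' h k r e) (toPull k) (toPull h) (toPull r) (cxComp h k r e) (toPull_comp' h k r e K)

lemma pullbackComp'_assoc (h : W ⟶ X) (k : X ⟶ Y) (l : Y ⟶ Z) (hk : W ⟶ Y) (kl : X ⟶ Z) (hkl : W ⟶ Z)
    (e₁ : h ≫ k = hk) (e₂ : k ≫ l = kl) (e₃ : h ≫ kl = hkl) (e₄ : hk ≫ l = hkl) (M : Z.Modules) :
    (Scheme.Modules.pullback h).map ((pullbackComp' k l kl e₂).hom.app M) ≫ (pullbackComp' h kl hkl e₃).hom.app M =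
      (pullbackComp' h k hk e₁).hom.app ((Scheme.Modules.pullback l).obj M) ≫
        (pullbackComp' hk l hkl e₄).hom.app M := by
  subst e₁ e₂ e₃
  have h0 := congr_app (Scheme.Modules.pseudofunctor_associativity (f := h) (g := k) (h := l)) M
  simp only [NatTrans.comp_app, Functor.whiskerRight_app, Functor.associator_hom_app, Functor.whiskerLeft_app,
    Category.id_comp, eqToHom_app] at h0
  simp only [pullbackComp', Scheme.Modules.pullbackCongr, Iso.trans_hom, eqToIso.hom, NatTrans.comp_app,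
    eqToHom_app, eqToHom_refl, Category.comp_id]
  let a := (Scheme.Modules.pullback h).mapIso ((Scheme.Modules.pullbackComp k l).app M)
  let b := (Scheme.Modules.pullbackComp h (k ≫ l)).app M
  refine (cancel_epi (b.inv ≫ a.inv)).1 ?_
  refine Eq.trans ?_ ((Category.assoc _ _ _).trans (h0.trans (eqToHom_refl _ _))).symm
  refine (Category.assoc _ _ _).trans ?_
  exact (congrArg (b.inv ≫ ·) (a.inv_hom_id_assoc b.hom)).trans b.inv_hom_id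

lemma transfer_app {A B C D : Type*} [Category A] [Category B] [Category C] [Category D]
    {Ll : A ⥤ B} {Lk : B ⥤ C} {Lh : C ⥤ D} {Lkl : A ⥤ C} {Lhk : B ⥤ D} {Lhkl : A ⥤ D}
    (σ₁ : Ll ⋙ Lk ≅ Lkl) (σ₂ : Lkl ⋙ Lh ≅ Lhkl) (σ₃ : Lk ⋙ Lh ≅ Lhk) (σ₄ : Ll ⋙ Lhk ≅ Lhkl) {S T : A} (i : S ≅ T)
    (H : Lh.map (σ₁.hom.app S) ≫ σ₂.hom.app S = σ₃.hom.app (Ll.obj S) ≫ σ₄.hom.app S) :
    Lh.map (σ₁.hom.app T) ≫ σ₂.hom.app T = σ₃.hom.app (Ll.obj T) ≫ σ₄.hom.app T := by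
  let α : Ll ⋙ Lk ⋙ Lh ⟶ Lhkl := (Functor.associator _ _ _).inv ≫ Functor.whiskerRight σ₁.hom _ ≫ σ₂.hom
  let β : Ll ⋙ Lk ⋙ Lh ⟶ Lhkl := Functor.whiskerLeft _ σ₃.hom ≫ σ₄.hom
  have hα : ∀ R, α.app R = Lh.map (σ₁.hom.app R) ≫ σ₂.hom.app R := fun R => by simp [α]
  have hβ : ∀ R, β.app R = σ₃.hom.app (Ll.obj R) ≫ σ₄.hom.app R := fun R => by simp [β]
  rw [← hα, ← hβ, ← cancel_epi ((Ll ⋙ Lk ⋙ Lh).map i.hom), α.naturality, β.naturality, hα, hβ, H]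

lemma assoc_chase {A₀ A₁ A₂ A₃ C₀ C₁ C₂ C₃ : Type*} [Category A₀] [Category A₁] [Category A₂] [Category A₃]
    [Category C₀] [Category C₁] [Category C₂] [Category C₃] {Q₀ : A₀ ⥤ C₀} {Q₁ : A₁ ⥤ C₁} {Q₂ : A₂ ⥤ C₂}
    {Q₃ : A₃ ⥤ C₃} {Pl : A₀ ⥤ A₁} {Pk : A₁ ⥤ A₂} {Ph : A₂ ⥤ A₃} {Pkl : A₀ ⥤ A₂} {Phk : A₁ ⥤ A₃}
    {Phkl : A₀ ⥤ A₃} {Ll : C₀ ⥤ C₁} {Lk : C₁ ⥤ C₂} {Lh : C₂ ⥤ C₃} {Lkl : C₀ ⥤ C₂} {Lhk : C₁ ⥤ C₃}
    {Lhkl : C₀ ⥤ C₃} (σ₁ : Ll ⋙ Lk ≅ Lkl) (σ₂ : Lkl ⋙ Lh ≅ Lhkl) (σ₃ : Lk ⋙ Lh ≅ Lhk) (σ₄ : Ll ⋙ Lhk ≅ Lhkl)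
    (tl : Q₀ ⋙ Ll ⟶ Pl ⋙ Q₁) (tk : Q₁ ⋙ Lk ⟶ Pk ⋙ Q₂) (th : Q₂ ⋙ Lh ⟶ Ph ⋙ Q₃)
    (tkl : Q₀ ⋙ Lkl ⟶ Pkl ⋙ Q₂) (thk : Q₁ ⋙ Lhk ⟶ Phk ⋙ Q₃) (thkl : Q₀ ⋙ Lhkl ⟶ Phkl ⋙ Q₃)
    (c₁ : Pl ⋙ Pk ≅ Pkl) (c₂ : Pkl ⋙ Ph ≅ Phkl) (c₃ : Pk ⋙ Ph ≅ Phk) (c₄ : Pl ⋙ Phk ≅ Phkl)
    (K : A₀) [IsIso (thkl.app K)] {T : C₀} (i : Q₀.obj K ≅ T)
    (E₁ : CompEq σ₁ tl tk tkl c₁ K) (E₂ : CompEq σ₂ tkl th thkl c₂ K) (E₄ : CompEq σ₄ tl thk thkl c₄ K)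
    (E₃ : CompEq σ₃ tk th thk c₃ (Pl.obj K))
    (Hc : Ph.map (c₁.hom.app K) ≫ c₂.hom.app K = c₃.hom.app (Pl.obj K) ≫ c₄.hom.app K) :
    Lh.map (σ₁.hom.app T) ≫ σ₂.hom.app T = σ₃.hom.app (Ll.obj T) ≫ σ₄.hom.app T := by
  refine transfer_app σ₁ σ₂ σ₃ σ₄ i ?_
  simp only [CompEq] at E₁ E₂ E₃ E₄
  have n₁ : Lh.map (Q₂.map (c₁.hom.app K)) ≫ th.app (Pkl.obj K) =
      th.app (Pk.obj (Pl.obj K)) ≫ Q₃.map (Ph.map (c₁.hom.app K)) := th.naturality (c₁.hom.app K)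
  have n₂ : Lh.map (Lk.map (tl.app K)) ≫ σ₃.hom.app (Q₁.obj (Pl.obj K)) =
      σ₃.hom.app (Ll.obj (Q₀.obj K)) ≫ Lhk.map (tl.app K) := σ₃.hom.naturality (tl.app K)
  have hq : Q₃.map (Ph.map (c₁.hom.app K)) ≫ Q₃.map (c₂.hom.app K) =
      Q₃.map (c₃.hom.app (Pl.obj K)) ≫ Q₃.map (c₄.hom.app K) := by rw [← Q₃.map_comp, Hc, Q₃.map_comp]
  rw [← cancel_mono (thkl.app K)]
  simp only [Category.assoc]
  rw [E₂, E₄, ← Functor.map_comp_assoc, E₁, Functor.map_comp, Functor.map_comp, Category.assoc, Category.assoc,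
    reassoc_of% n₁, hq, ← reassoc_of% n₂, reassoc_of% E₃]

lemma cxComp_assoc (h : W ⟶ X) (k : X ⟶ Y) (l : Y ⟶ Z) (hk : W ⟶ Y) (kl : X ⟶ Z) (hkl : W ⟶ Z)
    (e₁ : h ≫ k = hk) (e₂ : k ≫ l = kl) (e₃ : h ≫ kl = hkl) (e₄ : hk ≫ l = hkl) (K : CochainComplex Z.Modules ℤ) :
    (pullCx h).map ((cxComp k l kl e₂).hom.app K) ≫ (cxComp h kl hkl e₃).hom.app K =
      (cxComp h k hk e₁).hom.app ((pullCx l).obj K) ≫ (cxComp hk l hkl e₄).hom.app K := by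
  refine HomologicalComplex.hom_ext _ _ fun n => ?_
  rw [HomologicalComplex.comp_f, HomologicalComplex.comp_f, Functor.mapHomologicalComplex_map_f, cxComp_f, cxComp_f,
    cxComp_f, cxComp_f]
  exact pullbackComp'_assoc h k l hk kl hkl e₁ e₂ e₃ e₄ (K.X n)

/-- associativity of composition of derived inverse images -/
lemma lpullCompIso'_assoc (h : W ⟶ X) (k : X ⟶ Y) (l : Y ⟶ Z) (hk : W ⟶ Y) (kl : X ⟶ Z) (hkl : W ⟶ Z)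
    (e₁ : h ≫ k = hk) (e₂ : k ≫ l = kl) (e₃ : h ≫ kl = hkl) (e₄ : hk ≫ l = hkl) (T : DCoh.D Z) :
    (DCoh.Lpull h).map ((lpullCompIso' k l kl e₂).hom.app T) ≫ (lpullCompIso' h kl hkl e₃).hom.app T =
      (lpullCompIso' h k hk e₁).hom.app ((DCoh.Lpull l).obj T) ≫ (lpullCompIso' hk l hkl e₄).hom.app T := by
  let K := (resY Z).obj (Q.objPreimage T)
  have := quasiIso_resYπ (Y := Z) (Q.objPreimage T)
  let i : Q.obj K ≅ T := asIso (Q.map ((resYπ Z).app (Q.objPreimage T))) ≪≫ Q.objObjPreimageIso T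
  have : IsIso ((toPull hkl).app K) := isIso_toPull hkl (P := K) (isKFlat_resY _)
  exact assoc_chase (lpullCompIso' k l kl e₂) (lpullCompIso' h kl hkl e₃) (lpullCompIso' h k hk e₁)
    (lpullCompIso' hk l hkl e₄) (toPull l) (toPull k) (toPull h) (toPull kl) (toPull hk) (toPull hkl)
    (cxComp k l kl e₂) (cxComp h kl hkl e₃) (cxComp h k hk e₁) (cxComp hk l hkl e₄) K i
    (compEq_pull k l kl e₂ K) (compEq_pull h kl hkl e₃ K) (compEq_pull hk l hkl e₄ K)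
    (compEq_pull h k hk e₁ ((pullCx l).obj K)) (cxComp_assoc h k l hk kl hkl e₁ e₂ e₃ e₄ K)

end

end Groth.Agent.CohBase.TorBC
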