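import Groth.Agent.CohBase.TorBC.Abstract
import Groth.Agent.CohBase.TorBC.Assoc

/-!
# The base change morphism on complexes adapted to all four functors
-/

set_option autoImplicit false

open CategoryTheory

namespace Groth.Agent.CohBase.TorBC

noncomputable section

variable {A₀ A₁ AX AD C₀ C₁ CX CD : Type*} [Category A₀] [Category A₁] [Category AX] [Category AD] [Category C₀]
  [Category C₁] [Category CX] [Category CD] {Q₀ : A₀ ⥤ C₀} {Q₁ : A₁ ⥤ C₁} {QX : AX ⥤ CX} {QD : AD ⥤ CD}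
  {Fc : A₀ ⥤ AX} {Gc : A₀ ⥤ A₁} {Qc : A₁ ⥤ AD} {Pc : AX ⥤ AD} {Rrc : A₀ ⥤ AD} {Rfc : AX ⥤ A₀} {Rqc : AD ⥤ A₁}
  {F : C₀ ⥤ CX} {G : C₀ ⥤ C₁} {Qd : C₁ ⥤ CD} {P : CX ⥤ CD} {Rr : C₀ ⥤ CD} {R : CX ⥤ C₀} {Rq : CD ⥤ C₁}
  {kd : G ⋙ Qd ≅ Rr} {ld : F ⋙ P ≅ Rr} {kc : Gc ⋙ Qc ≅ Rrc} {lc : Fc ⋙ Pc ≅ Rrc}
  {tf : Q₀ ⋙ F ⟶ Fc ⋙ QX} {tg : Q₀ ⋙ G ⟶ Gc ⋙ Q₁} {tq : Q₁ ⋙ Qd ⟶ Qc ⋙ QD} {tp : QX ⋙ P ⟶ Pc ⋙ QD}
  {tr : Q₀ ⋙ Rr ⟶ Rrc ⋙ QD} {βf : Rfc ⋙ Q₀ ⟶ QX ⋙ R} {βq : Rqc ⋙ Q₁ ⟶ QD ⋙ Rq}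

lemma bcm_on_complex (adj : F ⊣ R) (adjq : Qd ⊣ Rq) (εf : Rfc ⋙ Fc ⟶ 𝟭 AX) (εq : Rqc ⋙ Qc ⟶ 𝟭 AD) (K : AX)
    (hf : F.map (βf.app K) ≫ adj.counit.app (QX.obj K) = tf.app (Rfc.obj K) ≫ QX.map (εf.app K))
    (hq : Qd.map (βq.app (Pc.obj K)) ≫ adjq.counit.app (QD.obj (Pc.obj K)) =
      tq.app (Rqc.obj (Pc.obj K)) ≫ QD.map (εq.app (Pc.obj K)))
    (E₁ : CompEq kd tg tq tr kc (Rfc.obj K)) (E₂ : CompEq ld tf tp tr lc (Rfc.obj K))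
    (b : Gc.obj (Rfc.obj K) ⟶ Rqc.obj (Pc.obj K))
    (hb : Qc.map b ≫ εq.app (Pc.obj K) = kc.hom.app (Rfc.obj K) ≫ lc.inv.app (Rfc.obj K) ≫ Pc.map (εf.app K)) :
    G.map (βf.app K) ≫ bcm (sqc kd ld) adj adjq (QX.obj K) ≫ Rq.map (tp.app K) =
      tg.app (Rfc.obj K) ≫ Q₁.map b ≫ βq.app (Pc.obj K) := by
  apply (adjq.homEquiv _ _).symm.injective
  simp only [CompEq] at E₁ E₂
  rw [bcm, adjq.homEquiv_naturality_left_symm, adjq.homEquiv_naturality_right_symm]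
  erw [Equiv.symm_apply_apply]
  rw [adjq.homEquiv_counit, Functor.map_comp, Functor.map_comp, trans]
  have n₀ : Qd.map (G.map (βf.app K)) ≫ (sqc kd ld).hom.app (R.obj (QX.obj K)) =
      (sqc kd ld).hom.app (Q₀.obj (Rfc.obj K)) ≫ P.map (F.map (βf.app K)) := (sqc kd ld).hom.naturality _
  have n₁ : P.map (QX.map (εf.app K)) ≫ tp.app K = tp.app (Fc.obj (Rfc.obj K)) ≫ QD.map (Pc.map (εf.app K)) :=
    tp.naturality (εf.app K)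
  have n₂ : Qd.map (Q₁.map b) ≫ tq.app (Rqc.obj (Pc.obj K)) = tq.app (Gc.obj (Rfc.obj K)) ≫ QD.map (Qc.map b) :=
    tq.naturality b
  have hc : (sqc kd ld).hom.app (Q₀.obj (Rfc.obj K)) ≫ P.map (tf.app (Rfc.obj K)) ≫ tp.app (Fc.obj (Rfc.obj K)) =
      Qd.map (tg.app (Rfc.obj K)) ≫ tq.app (Gc.obj (Rfc.obj K)) ≫ QD.map (kc.hom.app (Rfc.obj K)) ≫
        QD.map (lc.inv.app (Rfc.obj K)) := by
    have e : P.map (tf.app (Rfc.obj K)) ≫ tp.app (Fc.obj (Rfc.obj K)) =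
        ld.hom.app (Q₀.obj (Rfc.obj K)) ≫ tr.app (Rfc.obj K) ≫ QD.map (lc.inv.app (Rfc.obj K)) := by
      rw [reassoc_of% E₂, ← QD.map_comp, Iso.hom_inv_id_app]
      erw [QD.map_id, Category.comp_id]
    rw [e]
    simp only [sqc, Iso.trans_hom, Iso.symm_hom, NatTrans.comp_app, Category.assoc, Iso.inv_hom_id_app_assoc]
    rw [reassoc_of% E₁]
  have hf' : P.map (F.map (βf.app K)) ≫ P.map (adj.counit.app (QX.obj K)) =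
      P.map (tf.app (Rfc.obj K)) ≫ P.map (QX.map (εf.app K)) := by
    rw [← Functor.map_comp, hf, Functor.map_comp]
  simp only [Category.assoc, Functor.comp_obj] at hq n₀ n₁ n₂ hc hf' ⊢
  rw [hq, reassoc_of% n₂, reassoc_of% n₀, reassoc_of% hf', n₁, reassoc_of% hc, ← QD.map_comp, ← QD.map_comp,
    ← QD.map_comp, hb]

lemma isIso_bcm_on_complex (adj : F ⊣ R) (adjq : Qd ⊣ Rq) (εf : Rfc ⋙ Fc ⟶ 𝟭 AX) (εq : Rqc ⋙ Qc ⟶ 𝟭 AD) (K : AX)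
    (hf : F.map (βf.app K) ≫ adj.counit.app (QX.obj K) = tf.app (Rfc.obj K) ≫ QX.map (εf.app K))
    (hq : Qd.map (βq.app (Pc.obj K)) ≫ adjq.counit.app (QD.obj (Pc.obj K)) =
      tq.app (Rqc.obj (Pc.obj K)) ≫ QD.map (εq.app (Pc.obj K)))
    (E₁ : CompEq kd tg tq tr kc (Rfc.obj K)) (E₂ : CompEq ld tf tp tr lc (Rfc.obj K))
    (b : Gc.obj (Rfc.obj K) ⟶ Rqc.obj (Pc.obj K))
    (hb : Qc.map b ≫ εq.app (Pc.obj K) = kc.hom.app (Rfc.obj K) ≫ lc.inv.app (Rfc.obj K) ≫ Pc.map (εf.app K))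
    (i₁ : IsIso (βf.app K)) (i₂ : IsIso (tp.app K)) (i₃ : IsIso (tg.app (Rfc.obj K))) (i₄ : IsIso b)
    (i₅ : IsIso (βq.app (Pc.obj K))) : IsIso (bcm (sqc kd ld) adj adjq (QX.obj K)) := by
  have : IsIso (G.map (βf.app K) ≫ bcm (sqc kd ld) adj adjq (QX.obj K) ≫ Rq.map (tp.app K)) := by
    rw [bcm_on_complex adj adjq εf εq K hf hq E₁ E₂ b hb]; infer_instance
  have := IsIso.of_isIso_comp_left (G.map (βf.app K)) (bcm (sqc kd ld) adj adjq (QX.obj K) ≫ Rq.map (tp.app K))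
  exact IsIso.of_isIso_comp_right _ (Rq.map (tp.app K))

end

end Groth.Agent.CohBase.TorBC
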