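import Groth.Agent.CohBase.TorBC.Local
import Groth.Agent.KFlat.MVTriangle
import Groth.Agent.KFlat.RGamma
import Groth.Agent.CohDerLib.QC.PerfBound
import Groth.Agent.CohAff.ResQcqs

/-!
# Tor-independent base change over an affine base, by Mayer–Vietoris
-/

set_option autoImplicit false
set_option backward.isDefEq.respectTransparency false
set_option backward.isDefEq.respectTransparency.types false
set_option linter.style.haveILetI false

universe u

open CategoryTheory CategoryTheory.Limits AlgebraicGeometry TopologicalSpace CategoryTheory.Pretriangulated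
open Groth.Agent.KFlat.Pull

attribute [local instance] HasDerivedCategory.standard

namespace Groth.Agent.CohBase.TorBC

noncomputable section

variable {X X' B₀ B₁ : Scheme.{u}} {f : X ⟶ B₀} {g : B₁ ⟶ B₀} {p : X' ⟶ X} {q : X' ⟶ B₁} {w : p ≫ f = q ≫ g}

lemma isBC_biprod {A B : DCoh.D X} (hA : IsBC f g p q w A) (hA' : IsBC f g p q w (A⟦(1 : ℤ)⟧))
    (hB : IsBC f g p q w B) (hB' : IsBC f g p q w (B⟦(-1 : ℤ)⟧)) : IsBC f g p q w (A ⊞ B) :=
  isBC_obj₁ (binaryBiproductTriangle A B).rotate (rot_of_distTriang _ (binaryBiproductTriangle_distinguished A B))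
    hB hA' hB' (hA.of_iso ((shiftFunctorCompIsoId (DCoh.D X) (1 : ℤ) (-1) (by omega)).app A).symm)

lemma nonempty_shift_neg_Rpush {W : Scheme.{u}} (j : W ⟶ X) (F : DCoh.D W) :
    Nonempty ((DCoh.Rpush j).obj (F⟦(-1 : ℤ)⟧) ≅ ((DCoh.Rpush j).obj F)⟦(-1 : ℤ)⟧) := by
  obtain ⟨e⟩ := (ex_Rpush j).nonempty_shift (fun _ hZ => Functor.map_isZero _ hZ) (F⟦(-1 : ℤ)⟧)
  exact ⟨((shiftFunctorCompIsoId (DCoh.D X) (1 : ℤ) (-1) (by omega)).app _).symm ≪≫
    (shiftFunctor (DCoh.D X) (-1 : ℤ)).mapIso (e.symm ≪≫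
      (DCoh.Rpush j).mapIso ((shiftFunctorCompIsoId (DCoh.D W) (-1 : ℤ) 1 (by omega)).app F))⟩

lemma isQCohD_restrictD (W : X.Opens) {E : DCoh.D X} (hE : DCoh.IsQCohD E) :
    DCoh.IsQCohD ((DCoh.restrictD W.ι).obj E) := fun i => by
  have : (DCoh.HD E i).IsQuasicoherent := hE i
  have h : ((Scheme.Modules.pullback W.ι).obj (DCoh.HD E i)).IsQuasicoherent := inferInstance
  exact CohDerLib.QC.qcoh_iso ((KFlat.MapHomology.iso (Scheme.Modules.restrictFunctor W.ι) i).app E).symm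
    (CohDerLib.QC.qcoh_iso ((Scheme.Modules.restrictFunctorIsoPullback W.ι).app (DCoh.HD E i)).symm h)

lemma exists_mv_triangle {U V : X.Opens} (hUV : U ⊔ V = ⊤) (E : DCoh.D X) :
    ∃ (a : E ⟶ (DCoh.Rpush U.ι).obj ((DCoh.restrictD U.ι).obj E) ⊞ (DCoh.Rpush V.ι).obj ((DCoh.restrictD V.ι).obj E))
      (b : _ ⟶ (DCoh.Rpush (U ⊓ V).ι).obj ((DCoh.restrictD (U ⊓ V).ι).obj E)) (c : _ ⟶ E⟦(1 : ℤ)⟧),
      Triangle.mk a b c ∈ distTriang (DCoh.D X) := by
  have := KFlat.RGamma.hasRΓ (X := X)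
  let I := (KFlat.RPush.injRes X).obj (DerivedCategory.Q.objPreimage E)
  let iE : (DerivedCategory.Q.obj I : DCoh.D X) ≅ E :=
    (asIso (DerivedCategory.Q.map ((KFlat.RPush.injι X).app (DerivedCategory.Q.objPreimage E)))).symm ≪≫
      DerivedCategory.Q.objObjPreimageIso E
  exact KFlat.MVTriangle.exists_triangle_of_shortExact (KFlat.MVTriangle.shortExact_scc I hUV) (Iso.refl _) iE
    (KFlat.MVTriangle.rcIso I U ≪≫ (DCoh.Rpush U.ι).mapIso ((DCoh.restrictD U.ι).mapIso iE))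
    (KFlat.MVTriangle.rcIso I V ≪≫ (DCoh.Rpush V.ι).mapIso ((DCoh.restrictD V.ι).mapIso iE))
    (KFlat.MVTriangle.rcIso I (U ⊓ V) ≪≫ (DCoh.Rpush (U ⊓ V).ι).mapIso ((DCoh.restrictD (U ⊓ V).ι).mapIso iE))

/-- base change for objects coming from a nice open -/
lemma isBC_push_of_goodOn [QuasiSeparatedSpace X] {A B : CommRingCat.{u}} {X' : Scheme.{u}} {f : X ⟶ Spec A}
    {φ : A ⟶ B} {p : X' ⟶ X} {q : X' ⟶ Spec B} (H : IsPullback p q f (Spec.map φ))
    (htor : ∀ (C : CommRingCat.{u}) (k : Spec C ⟶ X) [IsOpenImmersion k] (ψ : A ⟶ C),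
      Spec.map ψ = k ≫ f → TorInd φ ψ)
    (W : X.Opens) (hc : IsCompact (W : Set X)) (hW : GoodOn W)
    (hloc : ∀ O : X.Opens, IsAffineOpen O → GoodOn (W ⊓ O)) (F : DCoh.D W.toScheme) (hF : DCoh.IsQCohD F) :
    IsBC f (Spec.map φ) p q H.w ((DCoh.Rpush W.ι).obj F) := by
  have : CompactSpace W.toScheme := isCompact_iff_compactSpace.mp hc
  have : QuasiCompact W.ι := inferInstance
  let pU := pullback.fst W.ι p
  let j' := pullback.snd W.ι p
  have Hj : IsPullback pU j' W.ι p := IsPullback.of_hasPullback _ _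
  have HU : IsPullback pU (j' ≫ q) (W.ι ≫ f) (Spec.map φ) := Hj.paste_vert H
  have hj : IsBC W.ι p pU j' Hj.w F := by
    refine isBC_of_local Hj (torSq_of_isOpenImmersion W.ι p) (fun O hO => ?_) F hF
    intro W₀ k _ hk
    refine hloc O hO (k ≫ W.ι) ?_
    rw [Scheme.Hom.opensRange_comp, hk, Scheme.Hom.image_preimage_eq_opensRange_inf, Scheme.Opens.opensRange_ι]
  have hU : IsBC (W.ι ≫ f) (Spec.map φ) pU (j' ≫ q) HU.w F :=
    hW W.ι W.opensRange_ι (W.ι ≫ f) φ pU (j' ≫ q) HU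
      (fun C k _ ψ e => htor C (k ≫ W.ι) ψ (by rw [e, Category.assoc])) F hF
  exact isBC_of_pasteV rfl rfl HU.w hj hU

/-- the Mayer–Vietoris step -/
theorem good_of_sup [QuasiSeparatedSpace X] {U V : X.Opens} (hUV : U ⊔ V = ⊤) (hUc : IsCompact (U : Set X))
    (hVc : IsCompact (V : Set X)) (hU : GoodOn U) (hV : GoodOn V) (hI : GoodOn (U ⊓ V))
    (hlU : ∀ O : X.Opens, IsAffineOpen O → GoodOn (U ⊓ O)) (hlV : ∀ O : X.Opens, IsAffineOpen O → GoodOn (V ⊓ O))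
    (hlI : ∀ O : X.Opens, IsAffineOpen O → GoodOn (U ⊓ V ⊓ O)) : Good X := by
  intro A B X' f φ p q H htor E hE
  have hIc : IsCompact ((U ⊓ V : X.Opens) : Set X) := hUc.inter_of_isOpen hVc U.2 V.2
  obtain ⟨a, b, c, hT⟩ := exists_mv_triangle hUV E
  let FU := (DCoh.restrictD U.ι).obj E
  let FV := (DCoh.restrictD V.ι).obj E
  let FI := (DCoh.restrictD (U ⊓ V).ι).obj E
  have qU : DCoh.IsQCohD FU := isQCohD_restrictD U hE
  have qV : DCoh.IsQCohD FV := isQCohD_restrictD V hE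
  have qI : DCoh.IsQCohD FI := isQCohD_restrictD (U ⊓ V) hE
  have pU := fun (F : DCoh.D U.toScheme) hF => isBC_push_of_goodOn H htor U hUc hU hlU F hF
  have pV := fun (F : DCoh.D V.toScheme) hF => isBC_push_of_goodOn H htor V hVc hV hlV F hF
  have pI := fun (F : DCoh.D (U ⊓ V).toScheme) hF => isBC_push_of_goodOn H htor (U ⊓ V) hIc hI hlI F hF
  obtain ⟨eU₁⟩ := (ex_Rpush U.ι).nonempty_shift (fun _ hZ => Functor.map_isZero _ hZ) FU
  obtain ⟨eU₂⟩ := nonempty_shift_neg_Rpush U.ι FU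
  obtain ⟨eV₂⟩ := nonempty_shift_neg_Rpush V.ι FV
  obtain ⟨eV₃⟩ := nonempty_shift_neg_Rpush V.ι (FV⟦(-1 : ℤ)⟧)
  obtain ⟨eI₂⟩ := nonempty_shift_neg_Rpush (U ⊓ V).ι FI
  have sU := fun i : ℤ => CohDerLib.QC.isQCohD_shift qU i
  have sV := fun i : ℤ => CohDerLib.QC.isQCohD_shift qV i
  refine isBC_obj₁ _ hT ?_ (pI FI qI) ?_ ((pI _ (CohDerLib.QC.isQCohD_shift qI (-1))).of_iso eI₂)
  · exact isBC_biprod (pU FU qU) ((pU _ (sU 1)).of_iso eU₁) (pV FV qV) ((pV _ (sV (-1))).of_iso eV₂)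
  · have := preservesBinaryBiproducts_of_preservesBiproducts (shiftFunctor (DCoh.D X) (-1 : ℤ))
    refine IsBC.of_iso ((shiftFunctor (DCoh.D X) (-1 : ℤ)).mapBiprod _ _).symm ?_
    refine isBC_biprod ((pU _ (sU (-1))).of_iso eU₂)
      ((pU FU qU).of_iso ((shiftFunctorCompIsoId (DCoh.D X) (-1 : ℤ) 1 (by omega)).app _).symm)
      ((pV _ (sV (-1))).of_iso eV₂) ?_
    exact ((pV _ (CohDerLib.QC.isQCohD_shift (sV (-1)) (-1))).of_iso
      (eV₃ ≪≫ (shiftFunctor (DCoh.D X) (-1 : ℤ)).mapIso eV₂))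

lemma preimage_map_inf {W₀ : Scheme.{u}} (k : W₀ ⟶ X) [IsOpenImmersion k] (U : X.Opens) :
    k ''ᵁ k ⁻¹ᵁ U = k.opensRange ⊓ U := Scheme.Hom.image_preimage_eq_opensRange_inf k U

/-- the step, on an open subscheme -/
theorem goodOn_sup [QuasiSeparatedSpace X] {U V W : X.Opens} (hW : W = U ⊔ V) (hUc : IsCompact (U : Set X))
    (hVc : IsCompact (V : Set X)) (hU : GoodOn U) (hV : GoodOn V) (hI : GoodOn (U ⊓ V))
    (hlU : ∀ O : X.Opens, O ≤ W → IsAffineOpen O → GoodOn (U ⊓ O))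
    (hlV : ∀ O : X.Opens, O ≤ W → IsAffineOpen O → GoodOn (V ⊓ O))
    (hlI : ∀ O : X.Opens, O ≤ W → IsAffineOpen O → GoodOn (U ⊓ V ⊓ O)) : GoodOn W := by
  intro W₀ k _ hk
  have : QuasiSeparatedSpace W₀ := k.isOpenEmbedding.quasiSeparatedSpace
  have hin : ∀ Z : X.Opens, Z ≤ W → k ''ᵁ k ⁻¹ᵁ Z = Z := fun Z hZ => by
    rw [preimage_map_inf, hk, inf_eq_right.2 hZ]
  have hcpt : ∀ Z : X.Opens, Z ≤ W → IsCompact (Z : Set X) → IsCompact ((k ⁻¹ᵁ Z : W₀.Opens) : Set W₀) :=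
    fun Z hZ hc => by
      rw [k.isOpenEmbedding.isInducing.isCompact_iff]
      have : k.base '' ((k ⁻¹ᵁ Z : W₀.Opens) : Set W₀) = (Z : Set X) := congrArg SetLike.coe (hin Z hZ)
      rwa [this]
  have hgo : ∀ Z : X.Opens, Z ≤ W → GoodOn Z → GoodOn (k ⁻¹ᵁ Z) := fun Z hZ h => by
    intro W₁ k' _ hk'
    exact h (k' ≫ k) (by rw [Scheme.Hom.opensRange_comp, hk', hin Z hZ])
  have hglo : ∀ Z : X.Opens, Z ≤ W → (∀ O : X.Opens, O ≤ W → IsAffineOpen O → GoodOn (Z ⊓ O)) →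
      ∀ O : W₀.Opens, IsAffineOpen O → GoodOn (k ⁻¹ᵁ Z ⊓ O) := fun Z hZ h O hO => by
    have hO' : k ''ᵁ O ≤ W := hk ▸ k.image_le_opensRange O
    have := hgo (Z ⊓ k ''ᵁ O) (inf_le_left.trans hZ) (h _ hO' (hO.image_of_isOpenImmersion k))
    rwa [Scheme.Hom.preimage_inf, Scheme.Hom.preimage_image_eq] at this
  have hUW : U ≤ W := hW ▸ le_sup_left
  have hVW : V ≤ W := hW ▸ le_sup_right
  refine good_of_sup (U := k ⁻¹ᵁ U) (V := k ⁻¹ᵁ V) ?_ (hcpt U hUW hUc) (hcpt V hVW hVc) (hgo U hUW hU)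
    (hgo V hVW hV) (hgo (U ⊓ V) (inf_le_left.trans hUW) hI) (hglo U hUW hlU) (hglo V hVW hlV)
    (hglo (U ⊓ V) (inf_le_left.trans hUW) hlI)
  rw [← Scheme.Hom.preimage_sup, ← hW, ← hk, Scheme.Hom.preimage_opensRange]

lemma goodOn_bot : GoodOn (⊥ : X.Opens) := goodOn_of_isAffineOpen (isAffineOpen_bot X)

/-- separated schemes -/
theorem goodOn_of_isSeparated [X.IsSeparated] (W : X.Opens) (hc : IsCompact (W : Set X)) :
    GoodOn W ∧ ∀ O : X.Opens, IsAffineOpen O → GoodOn (W ⊓ O) := by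
  refine Groth.Agent.CohAff.compact_le_induction (X₀ := (⊤ : X.Opens))
    ((isQuasiSeparated_univ_iff).2 inferInstance)
    (fun W _ => GoodOn W ∧ ∀ O : X.Opens, IsAffineOpen O → GoodOn (W ⊓ O)) ?_ ?_ W le_top hc
  · exact fun A _ hA => ⟨goodOn_of_isAffineOpen hA, fun O hO => goodOn_of_isAffineOpen (hA.inf hO)⟩
  · intro U V _ hUc hVc hU hV hI
    refine ⟨goodOn_sup rfl hUc hVc hU.1 hV.1 hI.1 (fun O _ hO => hU.2 O hO) (fun O _ hO => hV.2 O hO)
      (fun O _ hO => hI.2 O hO), fun O hO => ?_⟩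
    have hco : ∀ Z : X.Opens, IsCompact (Z : Set X) → IsCompact ((Z ⊓ O : X.Opens) : Set X) :=
      fun Z hZ => hZ.inter_of_isOpen hO.isCompact Z.2 O.2
    refine goodOn_sup (inf_sup_right _ _ _) (hco U hUc) (hco V hVc) (hU.2 O hO) (hV.2 O hO) ?_ (fun O' _ hO' => ?_)
      (fun O' _ hO' => ?_) (fun O' _ hO' => ?_)
    · rw [← inf_inf_distrib_right]; exact hI.2 O hO
    · rw [inf_assoc]; exact hU.2 _ (hO.inf hO')
    · rw [inf_assoc]; exact hV.2 _ (hO.inf hO')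
    · rw [← inf_inf_distrib_right, inf_assoc]; exact hI.2 _ (hO.inf hO')

lemma good_of_isSeparated [X.IsSeparated] [CompactSpace X] : Good X :=
  (goodOn_of_isSeparated (⊤ : X.Opens) isCompact_univ).1 (𝟙 X) (Scheme.Hom.opensRange_of_isIso _)

lemma compactSpace_of_opensRange {W₀ : Scheme.{u}} (k : W₀ ⟶ X) [IsOpenImmersion k] {W : X.Opens}
    (hk : k.opensRange = W) (hc : IsCompact (W : Set X)) : CompactSpace W₀ := ⟨by
  subst hk
  rw [k.isOpenEmbedding.isInducing.isCompact_iff, Set.image_univ]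
  exact hc⟩

lemma goodOn_of_le_affine {A W : X.Opens} (hA : IsAffineOpen A) (hW : W ≤ A) (hc : IsCompact (W : Set X)) :
    GoodOn W := by
  intro W₀ k _ hk
  have : IsAffine _ := hA
  let k' : W₀ ⟶ A.toScheme := IsOpenImmersion.lift A.ι k (by
    rw [Scheme.Opens.range_ι]; exact (congrArg SetLike.coe hk).subset.trans hW)
  have hk' : k' ≫ A.ι = k := IsOpenImmersion.lift_fac _ _ _
  have : IsOpenImmersion (k' ≫ A.ι) := by rw [hk']; infer_instance
  have : IsOpenImmersion k' := IsOpenImmersion.of_comp k' A.ι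
  have : W₀.IsSeparated := ⟨by
    rw [← terminal.comp_from k']; infer_instance⟩
  have : CompactSpace W₀ := compactSpace_of_opensRange k hk hc
  exact good_of_isSeparated

/-- quasi-compact quasi-separated schemes -/
theorem goodOn_of_quasiSeparated [QuasiSeparatedSpace X] (W : X.Opens) (hc : IsCompact (W : Set X)) :
    GoodOn W ∧ ∀ A O : X.Opens, IsAffineOpen A → O ≤ A → IsCompact (O : Set X) → GoodOn (W ⊓ O) := by
  refine Groth.Agent.CohAff.compact_le_induction (X₀ := (⊤ : X.Opens))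
    ((isQuasiSeparated_univ_iff).2 inferInstance)
    (fun W _ => GoodOn W ∧ ∀ A O : X.Opens, IsAffineOpen A → O ≤ A → IsCompact (O : Set X) → GoodOn (W ⊓ O))
    ?_ ?_ W le_top hc
  · exact fun A _ hA => ⟨goodOn_of_isAffineOpen hA, fun _ O _ _ hOc =>
      goodOn_of_le_affine hA inf_le_left (hA.isCompact.inter_of_isOpen hOc A.2 O.2)⟩
  · intro U V _ hUc hVc hU hV hI
    refine ⟨goodOn_sup rfl hUc hVc hU.1 hV.1 hI.1 (fun O _ hO => hU.2 O O hO le_rfl hO.isCompact)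
      (fun O _ hO => hV.2 O O hO le_rfl hO.isCompact)
      (fun O _ hO => hI.2 O O hO le_rfl hO.isCompact), fun A O hA hOA hOc => ?_⟩
    exact goodOn_of_le_affine hA (inf_le_right.trans hOA) ((hUc.union hVc).inter_of_isOpen hOc (U ⊔ V).2 O.2)

/-- Tor-independent base change on affine bases, for all quasi-compact quasi-separated schemes -/
theorem good_of_qcqs [CompactSpace X] [QuasiSeparatedSpace X] : Good X :=
  (goodOn_of_quasiSeparated (⊤ : X.Opens) isCompact_univ).1 (𝟙 X) (Scheme.Hom.opensRange_of_isIso _)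

/-- Tor-independent base change -/
theorem isBC_of_torSq (H : IsPullback p q f g) [QuasiCompact f] [QuasiSeparated f] (htor : TorSq f g)
    (E : DCoh.D X) (hE : DCoh.IsQCohD E) : IsBC f g p q H.w E := by
  refine isBC_of_local H htor (fun U hU => ?_) E hE
  intro W₀ k _ hk
  have : CompactSpace W₀ := compactSpace_of_opensRange k hk (f.isCompact_preimage hU.isCompact)
  have : QuasiSeparatedSpace W₀ := by
    have hqs := Scheme.Hom.isQuasiSeparated_preimage f hU.isQuasiSeparated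
    have : QuasiSeparatedSpace (f ⁻¹ᵁ U).toScheme := (isQuasiSeparated_iff_quasiSeparatedSpace _ (f ⁻¹ᵁ U).2).1 hqs
    exact (k.isoOpensRange ≪≫ X.isoOfEq hk).hom.isOpenEmbedding.quasiSeparatedSpace
  exact good_of_qcqs

end

end Groth.Agent.CohBase.TorBC
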