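import Groth.Agent.CohBase.TorBC.Affine
import Groth.Agent.CohBase.FlatBC.DBaseChange

/-!
# Tor-independent base change is local on both bases
-/

set_option autoImplicit false
set_option backward.isDefEq.respectTransparency false
set_option backward.isDefEq.respectTransparency.types false
set_option linter.style.haveILetI false

universe u

open CategoryTheory CategoryTheory.Limits AlgebraicGeometry TopologicalSpace
open Groth.Agent.KFlat.Pull Groth.Agent.CohBase.FlatBC.D Groth.Agent.CohBase.FlatBC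

attribute [local instance] HasDerivedCategory.standard

namespace Groth.Agent.CohBase.TorBC

noncomputable section

variable {X X' Y B₀ B₁ : Scheme.{u}}

/-- Tor-independence on affine charts -/
def TorSq (f : X ⟶ B₀) (g : B₁ ⟶ B₀) : Prop :=
  ∀ (U : B₀.Opens) (hU : IsAffineOpen U) (U' : B₁.Opens), IsAffineOpen U' → ∀ (hle : U' ≤ g ⁻¹ᵁ U)
    (C : CommRingCat.{u}) (k : Spec C ⟶ X) [IsOpenImmersion k] (ψ : Γ(B₀, U) ⟶ C),
    Spec.map ψ ≫ hU.fromSpec = k ≫ f → TorInd (g.appLE U U' hle) ψ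

lemma torInd_of_flat {A B C : CommRingCat.{u}} (φ : A ⟶ B) (ψ : A ⟶ C) (h : ψ.hom.Flat) : TorInd φ ψ := by
  intro i hi
  obtain ⟨n, rfl⟩ : ∃ n, i = n + 1 := ⟨i - 1, by omega⟩
  letI := φ.hom.toAlgebra
  letI := ψ.hom.toAlgebra
  haveI : Module.Flat A C := h
  haveI : Subsingleton (DRing.Tor A (n + 1) C B) := subsingleton_of_forall_eq 0 fun x =>
    Groth.Agent.LocCoh.Tor.tor_succ_eq_zero_of_flat (ModuleCat.of A C) n (ModuleCat.of A B) x
  exact subsingleton_tor_flip (A := A) C B (n + 1)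

lemma torSq_of_isOpenImmersion (j : X ⟶ B₀) [IsOpenImmersion j] (g : B₁ ⟶ B₀) : TorSq j g := by
  intro U hU U' _ hle C k _ ψ e
  refine torInd_of_flat _ _ ?_
  have : IsOpenImmersion (Spec.map ψ ≫ hU.fromSpec) := by rw [e]; infer_instance
  have : IsOpenImmersion (Spec.map ψ) := IsOpenImmersion.of_comp _ hU.fromSpec
  exact (HasRingHomProperty.Spec_iff (P := @Flat)).1 inferInstance

/-- base change holds over every affine base for every Tor-independent square -/
def Good (X : Scheme.{u}) : Prop :=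
  ∀ ⦃A B : CommRingCat.{u}⦄ ⦃X' : Scheme.{u}⦄ (f : X ⟶ Spec A) (φ : A ⟶ B) (p : X' ⟶ X) (q : X' ⟶ Spec B)
    (H : IsPullback p q f (Spec.map φ)),
    (∀ (C : CommRingCat.{u}) (k : Spec C ⟶ X) [IsOpenImmersion k] (ψ : A ⟶ C),
      Spec.map ψ = k ≫ f → TorInd φ ψ) →
    ∀ E : DCoh.D X, DCoh.IsQCohD E → IsBC f (Spec.map φ) p q H.w E

lemma good_of_isAffine [IsAffine X] : Good X := fun _ _ _ _ _ _ _ H htor E hE => isBC_affine H htor E hE

/-- `Good` on an open -/
def GoodOn (W : X.Opens) : Prop :=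
  ∀ ⦃W₀ : Scheme.{u}⦄ (k : W₀ ⟶ X) [IsOpenImmersion k], k.opensRange = W → Good W₀

lemma goodOn_of_isAffineOpen {W : X.Opens} (hW : IsAffineOpen W) : GoodOn W := by
  intro W₀ k _ hk
  subst hk
  have : IsAffine _ := hW
  have : IsAffine W₀ := .of_isIso k.isoOpensRange.hom
  exact good_of_isAffine

lemma isIso_bcm_of_eq {A B C D : Type*} [Category A] [Category B] [Category C] [Category D] {G : A ⥤ B} {Q : B ⥤ D}
    {F : A ⥤ C} {P : C ⥤ D} {c c' : G ⋙ Q ≅ F ⋙ P} (e : c = c') {R : C ⥤ A} (adj : F ⊣ R) {Rq : D ⥤ B}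
    (adjq : Q ⊣ Rq) (E : C) (h : IsIso (adjq.homEquiv _ _ (c.hom.app (R.obj E) ≫ P.map (adj.counit.app E)))) :
    IsIso (bcm c adj adjq E) := by
  subst e
  exact h

lemma squareIso_eq_sq (f : X ⟶ B₀) (g : B₁ ⟶ B₀) (p : X' ⟶ X) (q : X' ⟶ B₁) (w : p ≫ f = q ≫ g) :
    squareIso f g p q (p ≫ f) w.symm rfl = sq f g p q w := rfl

/-- flat base change in the present vocabulary -/
theorem isBC_flat {f : X ⟶ B₀} {g : B₁ ⟶ B₀} {p : X' ⟶ X} {q : X' ⟶ B₁} (H : IsPullback p q f g) [Flat g]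
    [QuasiCompact f] [QuasiSeparated f] (E : DCoh.D X) (hE : DCoh.IsQCohD E) : IsBC f g p q H.w E := by
  have : Flat p := MorphismProperty.of_isPullback H.flip ‹Flat g›
  have h := FlatBC.D.isIso_bc H (p ≫ f) H.w.symm rfl (KFlat.DerivedAdj.adj f) E (KFlat.DerivedAdj.adj q) hE
  exact isIso_bcm_of_eq (squareIso_eq_sq f g p q H.w) (KFlat.DerivedAdj.adj f) (KFlat.DerivedAdj.adj q) E h

/-- isomorphisms are detected by derived inverse image to affine charts -/
theorem isIso_of_isIso_Lpull {M N : DCoh.D Y} (η : M ⟶ N) (Q : Y.Opens → Prop)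
    (hQ : ∀ (V : Y.Opens) (y : Y), y ∈ V → ∃ W, Q W ∧ y ∈ W ∧ W ≤ V)
    (h : ∀ W, Q W → ∃ (Z : Scheme.{u}) (ι : Z ⟶ Y) (_ : IsOpenImmersion ι),
      ι.opensRange = W ∧ IsIso ((DCoh.Lpull ι).map η)) : IsIso η := by
  rw [DerivedCategory.isIso_iff]
  intro n
  refine isIso_of_basis_bijective _ Q hQ fun W hW => ?_
  obtain ⟨Z, ι, hι, hr, hi⟩ := h W hW
  let P := (Scheme.Modules.pullback ι).mapDerivedCategory
  have h1 : IsIso (P.map η) := (NatIso.isIso_map_iff (pullDIso ι) η).1 hi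
  have h2 : IsIso ((P ⋙ DerivedCategory.homologyFunctor Z.Modules n).map η) := inferInstanceAs (IsIso ((DerivedCategory.homologyFunctor Z.Modules n).map (P.map η)))
  have h3 := (NatIso.isIso_map_iff (KFlat.MapHomology.iso (Scheme.Modules.pullback ι) n) η).1 h2
  have h4 : IsIso ((Scheme.Modules.restrictFunctor ι).map ((DerivedCategory.homologyFunctor Y.Modules n).map η)) :=
    (NatIso.isIso_map_iff (Scheme.Modules.restrictFunctorIsoPullback ι) _).2 h3
  have h5 := Scheme.Modules.Hom.isIso_iff_isIso_app.1 h4 ⊤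
  have h6 : IsIso (((DerivedCategory.homologyFunctor Y.Modules n).map η).app (ι ''ᵁ ⊤)) := h5
  rw [Scheme.Hom.image_top_eq_opensRange, hr] at h6
  exact (ConcreteCategory.isIso_iff_bijective _).1 h6

/-- Tor-independent base change is local on the bases -/
theorem isBC_of_local {f : X ⟶ B₀} {g : B₁ ⟶ B₀} {p : X' ⟶ X} {q : X' ⟶ B₁} (H : IsPullback p q f g)
    [QuasiCompact f] [QuasiSeparated f] (htor : TorSq f g)
    (hgood : ∀ U : B₀.Opens, IsAffineOpen U → GoodOn (f ⁻¹ᵁ U)) (E : DCoh.D X) (hE : DCoh.IsQCohD E) :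
    IsBC f g p q H.w E := by
  have : QuasiCompact q := MorphismProperty.of_isPullback H ‹QuasiCompact f›
  have : QuasiSeparated q := MorphismProperty.of_isPullback H ‹QuasiSeparated f›
  refine isIso_of_isIso_Lpull (bc f g p q H.w E) _ (exists_affine_pair g) ?_
  rintro U' ⟨hU', U, hU, hle⟩
  refine ⟨_, hU'.fromSpec, inferInstance, hU'.opensRange_fromSpec, ?_⟩
  let φ := g.appLE U U' hle
  have hφ : Spec.map φ ≫ hU.fromSpec = hU'.fromSpec ≫ g := hU.SpecMap_appLE_fromSpec g hU' hle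
  let fV : pullback f hU.fromSpec ⟶ Spec Γ(B₀, U) := pullback.snd f hU.fromSpec
  let k : pullback f hU.fromSpec ⟶ X := pullback.fst f hU.fromSpec
  have H₁ : IsPullback k fV f hU.fromSpec := IsPullback.of_hasPullback _ _
  have H₂ : IsPullback (pullback.fst fV (Spec.map φ)) (pullback.snd fV (Spec.map φ)) fV (Spec.map φ) :=
    IsPullback.of_hasPullback _ _
  let p'' := pullback.fst fV (Spec.map φ)
  let q'' := pullback.snd fV (Spec.map φ)
  have Hb : IsPullback (p'' ≫ k) q'' f (hU'.fromSpec ≫ g) := by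
    rw [← hφ]
    exact H₂.paste_horiz H₁
  let p₂ := H.lift (p'' ≫ k) (q'' ≫ hU'.fromSpec) (by rw [Hb.w, Category.assoc])
  have ep : p₂ ≫ p = p'' ≫ k := H.lift_fst _ _ _
  have H₃ : IsPullback p₂ q'' q hU'.fromSpec :=
    IsPullback.of_right (by rw [ep]; exact Hb) (H.lift_snd _ _ _) H
  have : QuasiCompact fV := inferInstance
  have : QuasiSeparated fV := inferInstance
  -- the big square through the chart of the base
  have hb : IsBC f (hU'.fromSpec ≫ g) (p'' ≫ k) q'' Hb.w E := by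
    refine isBC_pasteH hφ rfl (wb := Hb.w) (w₁ := H₁.w) (w₂ := H₂.w) (isBC_flat H₁ E hE) ?_
    refine hgood U hU k ?_ fV φ p'' q'' H₂ (fun C k' _ ψ e => ?_) _ (KFlat.QCohModel.isQCohD_Lpull k E hE)
    · rw [Scheme.Hom.opensRange_pullbackFst, hU.opensRange_fromSpec]
    · exact htor U hU U' hU' hle C (k' ≫ k) ψ (by rw [e, Category.assoc, Category.assoc, H₁.w])
  exact isIso_map_bc_of_pasteH (w₁ := H.w) (w₂ := H₃.w) rfl ep (wb := Hb.w)
    (isBC_flat H₃ _ (KFlat.QCohModel.isQCohD_Lpull p E hE)) hb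

end

end Groth.Agent.CohBase.TorBC
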