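import Groth.Agent.CohBase.TorBC.Abstract
import Groth.Agent.CohBase.TorBC.Assoc
import Groth.Agent.CohBase.FlatBC.Global
import Groth.Agent.KFlat.CxAdj
import Groth.Agent.KFlat.RPush

/-!
# Base change of direct images on complexes of modules
-/

set_option autoImplicit false
set_option backward.isDefEq.respectTransparency false
set_option backward.isDefEq.respectTransparency.types false

universe u

open CategoryTheory CategoryTheory.Limits AlgebraicGeometry
open Groth.Agent.KFlat.Pull Groth.Agent.CohBase.FlatBC.D Groth.Agent.KFlat.RPush Groth.Agent.KFlat.WeakKInj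

attribute [local instance] HasDerivedCategory.standard

namespace Groth.Agent.CohBase.TorBC

noncomputable section

lemma transpose_eq {C₀ C₁ CX C' : Type*} [Category C₀] [Category C₁] [Category CX] [Category C']
    {G : C₀ ⥤ C₁} {Rg : C₁ ⥤ C₀} {Q' : C₁ ⥤ C'} {Rq : C' ⥤ C₁} {F : C₀ ⥤ CX} {Rf : CX ⥤ C₀} {P : CX ⥤ C'}
    {Rp : C' ⥤ CX} (ag : G ⊣ Rg) (aq : Q' ⊣ Rq) (af : F ⊣ Rf) (ap : P ⊣ Rp) (c : G ⋙ Q' ≅ F ⋙ P) (E : CX) :
    (ag.homEquiv _ _).symm (Rf.map (ap.unit.app E) ≫
        (conjugateIsoEquiv (af.comp ap) (ag.comp aq) c).hom.app (P.obj E)) = bcm c af aq E := by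
  rw [Equiv.symm_apply_eq, bcm, trans, ag.homEquiv_unit, aq.homEquiv_unit]
  simp only [conjugateIsoEquiv_apply_hom, conjugateEquiv_apply_app, Adjunction.comp_unit_app,
    Adjunction.comp_counit_app, Functor.comp_map, Functor.comp_obj, Category.assoc]
  simp only [← Functor.map_comp]
  simp only [Functor.map_comp, Category.assoc, Functor.id_obj]
  rw [← ag.unit_naturality_assoc]
  congr 1
  simp only [← Functor.map_comp]
  congr 1
  rw [← Category.assoc, ← Category.assoc, ← aq.unit_naturality]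
  simp only [Category.assoc, ← Functor.map_comp]
  congr 1
  congr 1
  have h := c.hom.naturality (Rf.map (ap.unit.app E))
  simp only [Functor.comp_map] at h
  rw [reassoc_of% h]
  congr 1
  simp only [← Functor.map_comp_assoc]
  rw [af.counit_naturality, Functor.map_comp, Category.assoc, ap.left_triangle_components, Category.comp_id]

local notation "adjM" => Scheme.Modules.pullbackPushforwardAdjunction

variable {X Y Z B₀ B₁ X' : Scheme.{u}}

lemma conj_pullbackComp'_inv (h : X ⟶ Y) (k : Y ⟶ Z) (r : X ⟶ Z) (e : h ≫ k = r) :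
    conjugateEquiv ((adjM k).comp (adjM h)) (adjM r) (pullbackComp' h k r e).inv =
      (Scheme.Modules.pushforwardComp h k).hom ≫ (Scheme.Modules.pushforwardCongr e).hom := by
  subst e
  have : (pullbackComp' h k (h ≫ k) rfl).inv = (Scheme.Modules.pullbackComp h k).inv := by
    ext M : 2; simp [pullbackComp', Scheme.Modules.pullbackCongr]
  rw [this, Scheme.Modules.conjugateEquiv_pullbackComp_inv]
  ext M U : 3
  simp

variable (f : X ⟶ B₀) (g : B₁ ⟶ B₀) (p : X' ⟶ X) (q : X' ⟶ B₁) (w : p ≫ f = q ≫ g)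

/-- `q^* g^* = p^* f^*` -/
def sqM : Scheme.Modules.pullback g ⋙ Scheme.Modules.pullback q ≅
    Scheme.Modules.pullback f ⋙ Scheme.Modules.pullback p :=
  sqc (pullbackComp' q g (p ≫ f) w.symm) (pullbackComp' p f (p ≫ f) rfl)

/-- `g^* f_* M ⟶ q_* p^* M` -/
def bcM (M : X.Modules) : (Scheme.Modules.pullback g).obj ((Scheme.Modules.pushforward f).obj M) ⟶
    (Scheme.Modules.pushforward q).obj ((Scheme.Modules.pullback p).obj M) :=
  bcm (sqM f g p q w) (adjM f) (adjM q) M

lemma conj_sqM : (conjugateIsoEquiv ((adjM f).comp (adjM p)) ((adjM g).comp (adjM q)) (sqM f g p q w)).hom =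
    (Scheme.Modules.pushforwardComp p f).hom ≫ (Scheme.Modules.pushforwardCongr w).hom ≫
      (Scheme.Modules.pushforwardComp q g).inv := by
  rw [conjugateIsoEquiv_apply_hom, sqM, sqc, Iso.trans_hom, Iso.symm_hom,
    ← conjugateEquiv_comp ((adjM f).comp (adjM p)) (adjM (p ≫ f)) ((adjM g).comp (adjM q)),
    conj_pullbackComp'_inv p f (p ≫ f) rfl]
  have h := conj_pullbackComp'_inv q g (p ≫ f) w.symm
  have hi : conjugateEquiv (adjM (p ≫ f)) ((adjM g).comp (adjM q)) (pullbackComp' q g (p ≫ f) w.symm).hom =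
      (Scheme.Modules.pushforwardCongr w.symm).inv ≫ (Scheme.Modules.pushforwardComp q g).inv := by
    rw [← cancel_epi ((Scheme.Modules.pushforwardComp q g).hom ≫ (Scheme.Modules.pushforwardCongr w.symm).hom)]
    conv_lhs => rw [← h, conjugateEquiv_comp, Iso.hom_inv_id, conjugateEquiv_id]
    simp
  rw [hi]
  ext M U : 3
  simp

lemma bcM_eq_bc0 (M : X.Modules) : bcM f g p q w M = CohBC.bc0 f g q p w M := by
  rw [bcM, ← transpose_eq (adjM g) (adjM q) (adjM f) (adjM p) (sqM f g p q w) M, conj_sqM]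
  rfl

theorem isIso_bcM (H : IsPullback p q f g) [IsAffineHom f] (M : X.Modules) [M.IsQuasicoherent] :
    IsIso (bcM f g p q H.w M) := by
  rw [bcM_eq_bc0]
  exact FlatBC.isIso_bc0_of_affine f g p q M H

/-- `g^* f_* K ⟶ q_* p^* K` -/
def bcCx (K : CochainComplex X.Modules ℤ) :
    (pullCx g).obj ((pushCx f).obj K) ⟶ (pushCx q).obj ((pullCx p).obj K) where
  f n := bcM f g p q w (K.X n)
  comm' i j _ := (bcm_naturality (sqM f g p q w) (adjM f) (adjM q) (K.d i j)).symm

theorem isIso_bcCx (H : IsPullback p q f g) [IsAffineHom f] (K : CochainComplex X.Modules ℤ)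
    (hK : ∀ n, (K.X n).IsQuasicoherent) : IsIso (bcCx f g p q H.w K) := by
  have : ∀ n, IsIso ((bcCx f g p q H.w K).f n) := fun n => by
    have := hK n
    exact isIso_bcM f g p q H (K.X n)
  exact HomologicalComplex.Hom.isIso_of_components _

lemma bcCx_counit (K : CochainComplex X.Modules ℤ) :
    (pullCx q).map (bcCx f g p q w K) ≫
        (KFlat.CxAdj.mapCx (adjM q) (ComplexShape.up ℤ)).counit.app ((pullCx p).obj K) =
      (cxComp q g (p ≫ f) w.symm).hom.app ((pushCx f).obj K) ≫
        (cxComp p f (p ≫ f) rfl).inv.app ((pushCx f).obj K) ≫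
        (pullCx p).map ((KFlat.CxAdj.mapCx (adjM f) (ComplexShape.up ℤ)).counit.app K) := by
  refine HomologicalComplex.hom_ext _ _ fun n => ?_
  have hi : ((cxComp p f (p ≫ f) rfl).inv.app ((pushCx f).obj K)).f n =
      (pullbackComp' p f (p ≫ f) rfl).inv.app (((pushCx f).obj K).X n) := by
    simp [cxComp, pullbackComp', pullCxComp, Scheme.Modules.pullbackCongr]
  rw [HomologicalComplex.comp_f, HomologicalComplex.comp_f, HomologicalComplex.comp_f, cxComp_f, hi]
  exact (map_homEquiv_counit (adjM q) _).trans (Category.assoc _ _ _)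

end

end Groth.Agent.CohBase.TorBC
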