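import Groth.Agent.CohBase.TorBC.Assoc
import Groth.Agent.CohBase.TorBC.Abstract
import Groth.Agent.KFlat.DerivedAdj

/-!
# Base change morphisms of squares of schemes, pasting
-/

set_option autoImplicit false
set_option backward.isDefEq.respectTransparency false
set_option backward.isDefEq.respectTransparency.types false

universe u

open CategoryTheory CategoryTheory.Limits AlgebraicGeometry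
open Groth.Agent.KFlat.Pull Groth.Agent.CohBase.FlatBC.D

attribute [local instance] HasDerivedCategory.standard

namespace Groth.Agent.CohBase.TorBC

noncomputable section

variable {W X Y Z : Scheme.{u}}

/-- `Lh^* Lk^* = L(hk)^*` -/
abbrev Kc (h : X ⟶ Y) (k : Y ⟶ Z) (r : X ⟶ Z) (e : h ≫ k = r) : DCoh.Lpull k ⋙ DCoh.Lpull h ≅ DCoh.Lpull r :=
  lpullCompIso' h k r e

lemma assocEq_pull (h : W ⟶ X) (k : X ⟶ Y) (l : Y ⟶ Z) (hk : W ⟶ Y) (kl : X ⟶ Z) (hkl : W ⟶ Z)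
    (e₁ : h ≫ k = hk) (e₂ : k ≫ l = kl) (e₃ : h ≫ kl = hkl) (e₄ : hk ≫ l = hkl) :
    AssocEq (Kc k l kl e₂) (Kc h kl hkl e₃) (Kc h k hk e₁) (Kc hk l hkl e₄) :=
  lpullCompIso'_assoc h k l hk kl hkl e₁ e₂ e₃ e₄

variable {B₀ B₁ X' : Scheme.{u}}

/-- `Lq^* Lg^* = Lp^* Lf^*` -/
def sq (f : X ⟶ B₀) (g : B₁ ⟶ B₀) (p : X' ⟶ X) (q : X' ⟶ B₁) (w : p ≫ f = q ≫ g) :
    DCoh.Lpull g ⋙ DCoh.Lpull q ≅ DCoh.Lpull f ⋙ DCoh.Lpull p :=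
  sqc (Kc q g (p ≫ f) w.symm) (Kc p f (p ≫ f) rfl)

/-- the base change morphism -/
def bc (f : X ⟶ B₀) (g : B₁ ⟶ B₀) (p : X' ⟶ X) (q : X' ⟶ B₁) (w : p ≫ f = q ≫ g) (E : DCoh.D X) :
    (DCoh.Lpull g).obj ((DCoh.Rpush f).obj E) ⟶ (DCoh.Rpush q).obj ((DCoh.Lpull p).obj E) :=
  bcm (sq f g p q w) (KFlat.DerivedAdj.adj f) (KFlat.DerivedAdj.adj q) E

/-- the base change morphism is invertible -/
def IsBC (f : X ⟶ B₀) (g : B₁ ⟶ B₀) (p : X' ⟶ X) (q : X' ⟶ B₁) (w : p ≫ f = q ≫ g) (E : DCoh.D X) : Prop :=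
  IsIso (bc f g p q w E)

section Horizontal

variable {B₂ X'' : Scheme.{u}} (f : X ⟶ B₀) (g₁ : B₁ ⟶ B₀) (p₁ : X' ⟶ X) (q₁ : X' ⟶ B₁)
  (w₁ : p₁ ≫ f = q₁ ≫ g₁) (g₂ : B₂ ⟶ B₁) (p₂ : X'' ⟶ X') (q₂ : X'' ⟶ B₂) (w₂ : p₂ ≫ q₁ = q₂ ≫ g₂)
  (gb : B₂ ⟶ B₀) (eg : g₂ ≫ g₁ = gb) (pb : X'' ⟶ X) (ep : p₂ ≫ p₁ = pb)
  (wb : pb ≫ f = q₂ ≫ gb)

lemma pasteH : PasteH (sq f g₁ p₁ q₁ w₁) (sq q₁ g₂ p₂ q₂ w₂) (sq f gb pb q₂ wb) (Kc g₂ g₁ gb eg) (Kc p₂ p₁ pb ep) :=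
  pasteH_of_assoc
    (a := Kc p₂ (p₁ ≫ f) (pb ≫ f) (by rw [← ep, Category.assoc]))
    (b := Kc (p₂ ≫ q₁) g₁ (pb ≫ f) (by rw [Category.assoc, ← w₁, ← ep, Category.assoc]))
    (assocEq_pull q₂ g₂ g₁ (p₂ ≫ q₁) gb (pb ≫ f) w₂.symm eg wb.symm _)
    (assocEq_pull p₂ q₁ g₁ (p₂ ≫ q₁) (p₁ ≫ f) (pb ≫ f) rfl w₁.symm _ _)
    (assocEq_pull p₂ p₁ f pb (p₁ ≫ f) (pb ≫ f) ep rfl _ rfl)

variable {f g₁ p₁ q₁ w₁ g₂ p₂ q₂ w₂ gb pb}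

include eg ep in
theorem isBC_pasteH {E : DCoh.D X} (h₁ : IsBC f g₁ p₁ q₁ w₁ E)
    (h₂ : IsBC q₁ g₂ p₂ q₂ w₂ ((DCoh.Lpull p₁).obj E)) : IsBC f gb pb q₂ wb E :=
  isIso_bcm_pasteH _ _ _ (pasteH f g₁ p₁ q₁ w₁ g₂ p₂ q₂ w₂ gb eg pb ep wb) h₁ h₂

include eg ep in
theorem isBC_right_of_pasteH {E : DCoh.D X} (h₁ : IsBC f g₁ p₁ q₁ w₁ E) (hb : IsBC f gb pb q₂ wb E) :
    IsBC q₁ g₂ p₂ q₂ w₂ ((DCoh.Lpull p₁).obj E) :=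
  isIso_bcm_right_of_pasteH _ _ _ (pasteH f g₁ p₁ q₁ w₁ g₂ p₂ q₂ w₂ gb eg pb ep wb) h₁ hb

include eg ep in
theorem isIso_map_bc_of_pasteH {E : DCoh.D X} (h₂ : IsBC q₁ g₂ p₂ q₂ w₂ ((DCoh.Lpull p₁).obj E))
    (hb : IsBC f gb pb q₂ wb E) : IsIso ((DCoh.Lpull g₂).map (bc f g₁ p₁ q₁ w₁ E)) :=
  isIso_map_bcm_of_pasteH _ _ _ (pasteH f g₁ p₁ q₁ w₁ g₂ p₂ q₂ w₂ gb eg pb ep wb) h₂ hb

end Horizontal

section Vertical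

variable {U U' : Scheme.{u}} (f : X ⟶ B₀) (g : B₁ ⟶ B₀) (p : X' ⟶ X) (q : X' ⟶ B₁) (w : p ≫ f = q ≫ g)
  (j : U ⟶ X) (pU : U' ⟶ U) (j' : U' ⟶ X') (wj : pU ≫ j = j' ≫ p)
  (fU : U ⟶ B₀) (ef : j ≫ f = fU) (qU : U' ⟶ B₁) (eq' : j' ≫ q = qU) (wU : pU ≫ fU = qU ≫ g)

lemma pasteV : PasteV (sq f g p q w) (sq j p pU j' wj) (sq fU g pU qU wU) (Kc j f fU ef) (Kc j' q qU eq') :=
  pasteV_of_assoc
    (a := Kc j' (p ≫ f) (pU ≫ fU) (by rw [← Category.assoc, ← wj, Category.assoc, ef]))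
    (b := Kc (pU ≫ j) f (pU ≫ fU) (by rw [Category.assoc, ef]))
    (assocEq_pull j' q g qU (p ≫ f) (pU ≫ fU) eq' w.symm _ wU.symm)
    (assocEq_pull j' p f (pU ≫ j) (p ≫ f) (pU ≫ fU) wj.symm rfl _ _)
    (assocEq_pull pU j f (pU ≫ j) fU (pU ≫ fU) rfl ef rfl _)

variable {f g p q w j pU j' wj fU qU}

include ef eq' in
theorem isBC_of_pasteV {E : DCoh.D U} (hj : IsBC j p pU j' wj E) (hU : IsBC fU g pU qU wU E) :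
    IsBC f g p q w ((DCoh.Rpush j).obj E) :=
  isIso_bcm_of_pasteV _ _ _ _ _ _ (pasteV f g p q w j pU j' wj fU ef qU eq' wU) hj hU

end Vertical

end

end Groth.Agent.CohBase.TorBC
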