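import Groth.Agent.CohBase.TorBC.Chase
import Groth.Agent.CohBase.TorBC.Paste
import Groth.Agent.CohBase.TorBC.ModBC
import Groth.Agent.PCohD.RpushAffine

/-!
# Base change along an affine morphism on a complex adapted to the four functors
-/

set_option autoImplicit false
set_option backward.isDefEq.respectTransparency false
set_option backward.isDefEq.respectTransparency.types false

universe u

open CategoryTheory CategoryTheory.Limits AlgebraicGeometry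
open Groth.Agent.KFlat.Pull Groth.Agent.CohBase.FlatBC.D Groth.Agent.KFlat.RPush Groth.Agent.KFlat.WeakKInj

attribute [local instance] HasDerivedCategory.standard

namespace Groth.Agent.CohBase.TorBC

noncomputable section

variable {X Y B₀ B₁ X' : Scheme.{u}}

/-- compatibility of a derived counit with the termwise one -/
def CounitEq {A₀ AX C₀ CX : Type*} [Category A₀] [Category AX] [Category C₀] [Category CX] {Q₀ : A₀ ⥤ C₀}
    {QX : AX ⥤ CX} {Fc : A₀ ⥤ AX} {Rfc : AX ⥤ A₀} {F : C₀ ⥤ CX} {R : CX ⥤ C₀} (adj : F ⊣ R)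
    (tf : Q₀ ⋙ F ⟶ Fc ⋙ QX) (βf : Rfc ⋙ Q₀ ⟶ QX ⋙ R) (εf : Rfc ⋙ Fc ⟶ 𝟭 AX) (K : AX) : Prop :=
  F.map (βf.app K) ≫ adj.counit.app (QX.obj K) = tf.app (Rfc.obj K) ≫ QX.map (εf.app K)

lemma counitEq_of (K : CochainComplex X.Modules ℤ) (F : DCoh.D Y ⥤ DCoh.D X) (R : DCoh.D X ⥤ DCoh.D Y)
    (adj : F ⊣ R) (Fc : CochainComplex Y.Modules ℤ ⥤ CochainComplex X.Modules ℤ)
    (Rfc : CochainComplex X.Modules ℤ ⥤ CochainComplex Y.Modules ℤ)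
    (tf : DerivedCategory.Q ⋙ F ⟶ Fc ⋙ DerivedCategory.Q) (βf : Rfc ⋙ DerivedCategory.Q ⟶ DerivedCategory.Q ⋙ R)
    (εf : Rfc ⋙ Fc ⟶ 𝟭 _)
    (E : F.map (βf.app K) ≫ adj.counit.app (DerivedCategory.Q.obj K) =
      tf.app (Rfc.obj K) ≫ DerivedCategory.Q.map (εf.app K)) :
    CounitEq adj tf βf εf K := E

lemma counit_fac (f : X ⟶ Y) (K : CochainComplex X.Modules ℤ) :
    (DCoh.Lpull f).map ((toRpush f).app K) ≫ (KFlat.DerivedAdj.adj f).counit.app (DerivedCategory.Q.obj K) =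
      (toPull f).app ((pushCx f).obj K) ≫ DerivedCategory.Q.map
        ((KFlat.CxAdj.mapCx (Scheme.Modules.pullbackPushforwardAdjunction f) (ComplexShape.up ℤ)).counit.app K) := by
  have := KFlat.DerivedAdj.isLeftDerived f
  have := KFlat.DerivedAdj.isLeftDerived_comp f
  have := KFlat.DerivedAdj.isRightDerived f
  have := KFlat.DerivedAdj.isRightDerived_comp f
  exact Adjunction.derivedε_fac_app
    (KFlat.CxAdj.mapCx (Scheme.Modules.pullbackPushforwardAdjunction f) (ComplexShape.up ℤ))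
    (HomologicalComplex.quasiIso X.Modules (ComplexShape.up ℤ)) (toPull f) (toRpush f) K

lemma counitEq_pull (f : X ⟶ Y) (K : CochainComplex X.Modules ℤ) :
    CounitEq (KFlat.DerivedAdj.adj f) (toPull f) (toRpush f)
      (KFlat.CxAdj.mapCx (Scheme.Modules.pullbackPushforwardAdjunction f) (ComplexShape.up ℤ)).counit K :=
  counitEq_of K _ _ (KFlat.DerivedAdj.adj f) _ _ (toPull f) (toRpush f) _ (counit_fac f K)

lemma isIso_bcm_of_counitEq {A₀ A₁ AX AD C₀ C₁ CX CD : Type*} [Category A₀] [Category A₁] [Category AX]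
    [Category AD] [Category C₀] [Category C₁] [Category CX] [Category CD] {Q₀ : A₀ ⥤ C₀} {Q₁ : A₁ ⥤ C₁}
    {QX : AX ⥤ CX} {QD : AD ⥤ CD} {Fc : A₀ ⥤ AX} {Gc : A₀ ⥤ A₁} {Qc : A₁ ⥤ AD} {Pc : AX ⥤ AD} {Rrc : A₀ ⥤ AD}
    {Rfc : AX ⥤ A₀} {Rqc : AD ⥤ A₁} {F : C₀ ⥤ CX} {G : C₀ ⥤ C₁} {Qd : C₁ ⥤ CD} {P : CX ⥤ CD} {Rr : C₀ ⥤ CD}
    {R : CX ⥤ C₀} {Rq : CD ⥤ C₁} {kd : G ⋙ Qd ≅ Rr} {ld : F ⋙ P ≅ Rr} {kc : Gc ⋙ Qc ≅ Rrc} {lc : Fc ⋙ Pc ≅ Rrc}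
    {tf : Q₀ ⋙ F ⟶ Fc ⋙ QX} {tg : Q₀ ⋙ G ⟶ Gc ⋙ Q₁} {tq : Q₁ ⋙ Qd ⟶ Qc ⋙ QD} {tp : QX ⋙ P ⟶ Pc ⋙ QD}
    {tr : Q₀ ⋙ Rr ⟶ Rrc ⋙ QD} {βf : Rfc ⋙ Q₀ ⟶ QX ⋙ R} {βq : Rqc ⋙ Q₁ ⟶ QD ⋙ Rq} (adj : F ⊣ R) (adjq : Qd ⊣ Rq)
    {εf : Rfc ⋙ Fc ⟶ 𝟭 AX} {εq : Rqc ⋙ Qc ⟶ 𝟭 AD} {K : AX} (hf : CounitEq adj tf βf εf K)
    (hq : CounitEq adjq tq βq εq (Pc.obj K)) (E₁ : CompEq kd tg tq tr kc (Rfc.obj K))
    (E₂ : CompEq ld tf tp tr lc (Rfc.obj K)) (b : Gc.obj (Rfc.obj K) ⟶ Rqc.obj (Pc.obj K))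
    (hb : Qc.map b ≫ εq.app (Pc.obj K) = kc.hom.app (Rfc.obj K) ≫ lc.inv.app (Rfc.obj K) ≫ Pc.map (εf.app K))
    (i₁ : IsIso (βf.app K)) (i₂ : IsIso (tp.app K)) (i₃ : IsIso (tg.app (Rfc.obj K))) (i₄ : IsIso b)
    (i₅ : IsIso (βq.app (Pc.obj K))) : IsIso (bcm (sqc kd ld) adj adjq (QX.obj K)) :=
  isIso_bcm_on_complex adj adjq εf εq K hf hq E₁ E₂ b hb i₁ i₂ i₃ i₄ i₅

variable {f : X ⟶ B₀} {g : B₁ ⟶ B₀} {p : X' ⟶ X} {q : X' ⟶ B₁}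

/-- base change holds on a complex adapted to the functors -/
theorem isBC_of_complex (H : IsPullback p q f g) [IsAffineHom f] (K : CochainComplex X.Modules ℤ)
    (hK : ∀ n, (K.X n).IsQuasicoherent) (hKf : DCoh.IsKFlat K) (hg : IsIso ((toPull g).app ((pushCx f).obj K))) :
    IsBC f g p q H.w (DerivedCategory.Q.obj K) := by
  have : IsAffineHom q := MorphismProperty.of_isPullback H ‹IsAffineHom f›
  have hp : ∀ n, (((pullCx p).obj K).X n).IsQuasicoherent := fun n =>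
    have := hK n
    inferInstanceAs ((Scheme.Modules.pullback p).obj (K.X n)).IsQuasicoherent
  exact isIso_bcm_of_counitEq (KFlat.DerivedAdj.adj f) (KFlat.DerivedAdj.adj q) (counitEq_pull f K)
    (counitEq_pull q ((pullCx p).obj K)) (compEq_pull q g (p ≫ f) H.w.symm ((pushCx f).obj K))
    (compEq_pull p f (p ≫ f) rfl ((pushCx f).obj K)) (bcCx f g p q H.w K) (bcCx_counit f g p q H.w K)
    (PCohD.isIso_toRpush_affine f K hK) (isIso_toPull p hKf) hg (isIso_bcCx f g p q H K hK)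
    (PCohD.isIso_toRpush_affine q _ hp)

end

end Groth.Agent.CohBase.TorBC
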