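import Groth.Agent.LocCoh.TorLES
import Mathlib.RingTheory.Flat.Stability
import Mathlib.RingTheory.TensorProduct.Basic
import Mathlib.RingTheory.TensorProduct.Quotient
import Mathlib.RingTheory.Ideal.Operations
import Mathlib.Algebra.CharP.Lemmas
import Mathlib.Algebra.Field.ZMod
import Mathlib.FieldTheory.Finite.Basic
import Mathlib.LinearAlgebra.Basis.VectorSpace
import Mathlib.RingTheory.Nilpotent.Lemmas

/-!
# Vanishing of higher `Tor` between perfect rings

`subsingleton_tor`: if `A`, `B` and `C` are rings with `p = 0` and bijective `p`-th power map and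
`A → B`, `A → C` are ring maps, then `Tor_{i+1}^A(B, C) = 0`.
-/

universe u

open CategoryTheory CategoryTheory.Limits
open scoped TensorProduct

namespace Groth.Agent.CohBase.TorBC.PerfTor

/-- `p = 0` and the `p`-th power map is bijective -/
def Perf (p : ℕ) (R : Type*) [CommRing R] : Prop :=
  (p : R) = 0 ∧ Function.Bijective fun x : R => x ^ p

variable {p : ℕ} {R : Type u} [CommRing R]

/-- the `p`-th root as an additive map -/
noncomputable def root [Fact p.Prime] (h : Perf p R) : R →+ R :=
  (AddEquiv.mk' (Equiv.ofBijective _ h.2) fun x y => by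
    obtain ⟨r, hr⟩ := exists_add_pow_prime_eq (Fact.out : p.Prime) x y
    simp [Equiv.ofBijective_apply, hr, h.1]).symm.toAddMonoidHom

variable [Fact p.Prime]

lemma root_pow (h : Perf p R) (x : R) : root h x ^ p = x :=
  Equiv.ofBijective_apply_symm_apply _ h.2 x

lemma root_pow_self (h : Perf p R) (x : R) : root h (x ^ p) = x :=
  h.2.injective (root_pow h (x ^ p))

lemma root_mul (h : Perf p R) (x y : R) : root h (x * y) = root h x * root h y :=
  h.2.injective (by simp only [mul_pow, root_pow])

lemma iterate_root_pow (h : Perf p R) (x : R) : ∀ n, ((root h)^[n] x) ^ p ^ n = x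
  | 0 => by simp
  | n + 1 => by
    rw [Function.iterate_succ_apply', pow_succ', pow_mul, root_pow]
    exact iterate_root_pow h x n

lemma iterate_root_mul (h : Perf p R) (x y : R) : ∀ n,
    (root h)^[n] (x * y) = (root h)^[n] x * (root h)^[n] y
  | 0 => rfl
  | n + 1 => by simp only [Function.iterate_succ_apply', iterate_root_mul h x y n, root_mul]

lemma iterate_root_pow_self (h : Perf p R) (x : R) : ∀ n, (root h)^[n] (x ^ p ^ n) = x
  | 0 => by simp
  | n + 1 => by
    rw [Function.iterate_succ_apply, pow_succ, pow_mul, root_pow_self, iterate_root_pow_self h x n]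

lemma isReduced (h : Perf p R) : IsReduced R := by
  refine ⟨fun x ⟨n, hn⟩ => ?_⟩
  have h' : x ^ p ^ n = 0 :=
    pow_eq_zero_of_le (Nat.lt_pow_self (Fact.out : p.Prime).one_lt).le hn
  rw [← iterate_root_pow_self h x n, h', iterate_map_zero (root h)]

section

variable {M : Type u} [AddCommGroup M] [Module R M]

lemma map_smul_top_mem {N : Type u} [AddCommGroup N] [Module R N] (φ : M →ₗ[R] N) {J : Ideal R} {x : M}
    (hx : x ∈ J • (⊤ : Submodule R M)) : φ x ∈ J • (⊤ : Submodule R N) := by
  have : φ x ∈ Submodule.map φ (J • ⊤) := Submodule.mem_map_of_mem hx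
  rw [Submodule.map_smul''] at this
  exact (Submodule.smul_mono le_rfl le_top) this

/-- for a flat module and a radical ideal, `g x ∈ J M` gives `g^{1/p} x ∈ J M` -/
lemma root_smul_mem_of_flat (h : Perf p R) [Module.Flat R M] {J : Ideal R} (hJ : J.IsRadical) (g : R) (x : M)
    (hx : g • x ∈ J • (⊤ : Submodule R M)) : root h g • x ∈ J • (⊤ : Submodule R M) := by
  let φ : R →ₗ[R] R ⧸ J := J.mkQ ∘ₗ LinearMap.mulLeft R g
  let I : Ideal R := LinearMap.ker φ
  have hex : Function.Exact (I.subtype : I →ₗ[R] R) φ := LinearMap.exact_subtype_ker_map φ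
  have h0 : φ.lTensor M (x ⊗ₜ[R] (1 : R)) = 0 := by
    apply (TensorProduct.tensorQuotEquivQuotSMul M J).injective
    rw [map_zero, LinearMap.lTensor_tmul]
    show TensorProduct.tensorQuotEquivQuotSMul M J (x ⊗ₜ[R] (Ideal.Quotient.mk J (g * 1))) = 0
    rw [TensorProduct.tensorQuotEquivQuotSMul_tmul_mk, mul_one, Submodule.Quotient.mk_eq_zero]
    exact hx
  obtain ⟨w, hw⟩ := (Module.Flat.lTensor_exact M hex _).1 h0
  have hxI : x ∈ I • (⊤ : Submodule R M) := by
    have : x = TensorProduct.rid R M (I.subtype.lTensor M w) := by simp [hw]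
    rw [this]
    clear hw this
    induction w using TensorProduct.induction_on with
    | zero => simp
    | tmul m a => simpa using Submodule.smul_mem_smul a.2 (Submodule.mem_top (x := m))
    | add a b ha hb => simpa only [map_add] using add_mem ha hb
  refine Submodule.smul_induction_on hxI (fun a ha n _ => ?_) (fun a b ha hb => by rw [smul_add]; exact add_mem ha hb)
  rw [← mul_smul]
  refine Submodule.smul_mem_smul (hJ ⟨p, ?_⟩) Submodule.mem_top
  have ha' : g * a ∈ J := by
    have : J.mkQ (g * a) = 0 := LinearMap.mem_ker.1 ha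
    exact (Submodule.Quotient.mk_eq_zero J).1 this
  rw [mul_pow, root_pow]
  obtain ⟨q, hq⟩ := Nat.exists_eq_add_of_le' (Fact.out : p.Prime).pos
  rw [hq, pow_succ', ← mul_assoc]
  exact J.mul_mem_right _ ha'

/-- elements of `rad (g, S) M` lie in some `rad (S) M + g^{1/p^n} M` -/
lemma exists_of_mem_radical_insert (h : Perf p R) (g : R) (S : Set R) (x : M)
    (hx : x ∈ (Ideal.span (insert g S)).radical • (⊤ : Submodule R M)) :
    ∃ (n : ℕ) (j : M), j ∈ (Ideal.span S).radical • (⊤ : Submodule R M) ∧
      ∃ w : M, x = j + (root h)^[n] g • w := by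
  have up : ∀ (n k : ℕ), ∃ c, (root h)^[n] g = c * (root h)^[n + k] g := by
    intro n k
    induction k with
    | zero => exact ⟨1, (one_mul _).symm⟩
    | succ k ih =>
      obtain ⟨c, hc⟩ := ih
      refine ⟨c * ((root h)^[n + k + 1] g) ^ (p - 1), hc.trans ?_⟩
      rw [← add_assoc, mul_assoc, ← pow_succ, Nat.sub_add_cancel (Fact.out : p.Prime).one_le,
        Function.iterate_succ_apply', root_pow]
  refine Submodule.smul_induction_on hx (fun a ha m _ => ?_) ?_
  · obtain ⟨n, hn⟩ := ha
    have hn' : a ^ p ^ n ∈ Ideal.span (insert g S) :=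
      Ideal.pow_mem_of_pow_mem (I := Ideal.span (insert g S)) hn (Nat.lt_pow_self (Fact.out : p.Prime).one_lt).le
    obtain ⟨c, s, hs, hcs⟩ := Ideal.mem_span_insert.1 hn'
    have hrs : (root h)^[n] s ∈ (Ideal.span S).radical := ⟨p ^ n, by rw [iterate_root_pow]; exact hs⟩
    refine ⟨n, _, Submodule.smul_mem_smul hrs (Submodule.mem_top (x := m)), (root h)^[n] c • m, ?_⟩
    have key := congrArg ((root h)^[n]) hcs
    rw [iterate_root_pow_self, iterate_map_add, iterate_root_mul] at key
    rw [key, add_smul, add_comm ((root h)^[n] s • m), ← mul_smul, mul_comm]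
  · rintro x y ⟨n, j, hj, w, rfl⟩ ⟨n', j', hj', w', rfl⟩
    obtain ⟨c, hc⟩ := up n n'
    obtain ⟨c', hc'⟩ := up n' n
    refine ⟨n + n', j + j', add_mem hj hj', c • w + c' • w', ?_⟩
    rw [hc, hc', add_comm n' n, smul_add, ← mul_smul, ← mul_smul, mul_comm c, mul_comm c']
    abel

end

section Descent

variable (h : Perf p R) (Q : ℕ → Type u) [∀ i, AddCommGroup (Q i)] [∀ i, Module R (Q i)]
  [∀ i, Module.Flat R (Q i)] (d : ∀ i, Q (i + 1) →ₗ[R] Q i) (D : Type u) [AddCommGroup D] [Module R D]
  (ε : Q 0 →ₗ[R] D) (hε : Function.Surjective ε) (h0 : Function.Exact (d 0) ε)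
  (hs : ∀ i, Function.Exact (d (i + 1)) (d i))
  (hD : ∀ J : Ideal R, J.IsRadical → ∀ (g : R) (c : D), g • c ∈ J • (⊤ : Submodule R D) →
    root h g • c ∈ J • (⊤ : Submodule R D))

include hε h0 hs hD

omit [∀ i, Module.Flat R (Q i)] in
lemma root_smul_mem_range_zero (J : Ideal R) (hJ : J.IsRadical) (g : R) (w : Q 0)
    (hw : g • ε w ∈ J • (⊤ : Submodule R D)) :
    root h g • w ∈ LinearMap.range (d 0) ⊔ J • (⊤ : Submodule R (Q 0)) := by
  have h1 : ε (root h g • w) ∈ Submodule.map ε (J • ⊤) := by
    rw [Submodule.map_smul'', Submodule.map_top, LinearMap.range_eq_top.2 hε, map_smul]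
    exact hD J hJ g _ hw
  obtain ⟨j, hj, hje⟩ := h1
  obtain ⟨v, hv⟩ := (h0 (root h g • w - j)).1 (by rw [map_sub, hje, sub_self])
  exact Submodule.mem_sup.2 ⟨d 0 v, ⟨v, rfl⟩, j, hj, by rw [hv, sub_add_cancel]⟩

theorem mem_range_sup_of_finset (S : Finset R) : ∀ (i : ℕ) (z : Q (i + 1)),
    d i z ∈ (Ideal.span (S : Set R)).radical • (⊤ : Submodule R (Q i)) →
      z ∈ LinearMap.range (d (i + 1)) ⊔ (Ideal.span (S : Set R)).radical • (⊤ : Submodule R (Q (i + 1))) := by
  classical
  induction S using Finset.induction with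
  | empty =>
    intro i z hz
    haveI := isReduced h
    rw [Finset.coe_empty, Ideal.span_empty] at hz ⊢
    rw [show (⊥ : Ideal R).radical = ⊥ from nilradical_eq_zero R, Submodule.bot_smul] at hz
    exact Submodule.mem_sup_left ((hs i z).1 ((Submodule.mem_bot R).1 hz))
  | insert g S _ ih =>
    intro i z hz
    rw [Finset.coe_insert] at hz ⊢
    set J := (Ideal.span (S : Set R)).radical with hJdef
    set J' := (Ideal.span (insert g (S : Set R))).radical with hJ'def
    have hJ : J.IsRadical := Ideal.radical_isRadical _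
    have hle : J ≤ J' := Ideal.radical_mono (Ideal.span_mono (Set.subset_insert _ _))
    obtain ⟨n, j, hj, w, hzw⟩ := exists_of_mem_radical_insert h g _ _ hz
    set gn := (root h)^[n] g
    have key : root h gn • w ∈ LinearMap.range (d i) ⊔ J • (⊤ : Submodule R (Q i)) := by
      cases i with
      | zero =>
        refine root_smul_mem_range_zero h Q d D ε hε h0 hs hD J hJ gn w ?_
        have e : (0 : D) = ε j + gn • ε w := by rw [← map_smul, ← map_add, ← hzw, h0.apply_apply_eq_zero]
        rw [eq_neg_of_add_eq_zero_right e.symm]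
        exact neg_mem (map_smul_top_mem ε hj)
      | succ i =>
        refine ih i _ ?_
        rw [map_smul]
        refine root_smul_mem_of_flat h hJ gn _ ?_
        have e : (0 : Q i) = d i j + gn • d i w := by
          rw [← map_smul, ← map_add, ← hzw, (hs i).apply_apply_eq_zero]
        rw [eq_neg_of_add_eq_zero_right e.symm]
        exact neg_mem (map_smul_top_mem (d i) hj)
    obtain ⟨_, ⟨u, rfl⟩, j', hj', hu⟩ := Submodule.mem_sup.1 key
    set c := root h gn ^ (p - 1) with hc
    have hzu : d i (z - c • u) ∈ J • (⊤ : Submodule R (Q i)) := by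
      have : gn • w = c • (d i u + j') := by
        rw [hu, ← mul_smul, hc, ← pow_succ, Nat.sub_add_cancel (Fact.out : p.Prime).one_le, root_pow]
      rw [map_sub, map_smul, hzw, this, smul_add, add_comm (c • d i u), ← add_assoc, add_sub_cancel_right]
      exact add_mem hj (Submodule.smul_mem _ _ hj')
    have hcJ : c ∈ J' := by
      refine Ideal.pow_mem_of_mem _ ?_ _ (Nat.sub_pos_of_lt (Fact.out : p.Prime).one_lt)
      refine ⟨p ^ (n + 1), ?_⟩
      rw [show root h gn = (root h)^[n + 1] g from (Function.iterate_succ_apply' _ _ _).symm, iterate_root_pow]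
      exact Ideal.subset_span (Set.mem_insert _ _)
    rw [← sub_add_cancel z (c • u)]
    exact add_mem (SetLike.le_def.1 (sup_le_sup_left (Submodule.smul_mono_left hle) _) (ih i _ hzu))
      (Submodule.mem_sup_right (Submodule.smul_mem_smul hcJ Submodule.mem_top))

theorem mem_range_sup (K : Ideal R) (hK : K.IsRadical) (i : ℕ) (z : Q (i + 1))
    (hz : d i z ∈ K • (⊤ : Submodule R (Q i))) :
    z ∈ LinearMap.range (d (i + 1)) ⊔ K • (⊤ : Submodule R (Q (i + 1))) := by
  classical
  have : ∃ S : Finset R, (S : Set R) ⊆ K ∧ d i z ∈ (Ideal.span (S : Set R)).radical • (⊤ : Submodule R (Q i)) := by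
    refine Submodule.smul_induction_on hz (fun a ha m _ => ⟨{a}, by simpa using ha, ?_⟩) ?_
    · exact Submodule.smul_mem_smul (Ideal.le_radical (Ideal.subset_span (by simp))) Submodule.mem_top
    · rintro x y ⟨S, hS, hx⟩ ⟨T, hT, hy⟩
      refine ⟨S ∪ T, by simp [hS, hT], add_mem ?_ ?_⟩
      · exact Submodule.smul_mono_left (Ideal.radical_mono (Ideal.span_mono (by simp))) hx
      · exact Submodule.smul_mono_left (Ideal.radical_mono (Ideal.span_mono (by simp))) hy
  obtain ⟨S, hS, hdz⟩ := this
  exact SetLike.le_def.1 (sup_le_sup_left (Submodule.smul_mono_left (hK.radical_le_iff.2 (Ideal.span_le.2 hS))) _)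
    (mem_range_sup_of_finset h Q d D ε hε h0 hs hD S i z hdz)

end Descent

section Tensor

variable {A : Type*} [CommRing A] (B C : Type u) [CommRing B] [CommRing C] [Algebra A B] [Algebra A C]
  (hA : Perf p A) (hB : Perf p B) (hC : Perf p C)

include hA hB hC

/-- a tensor product of perfect rings over a perfect ring is perfect -/
lemma perf_tensor : Perf p (B ⊗[A] C) := by
  have hp : p.Prime := Fact.out
  have h0 : (p : B ⊗[A] C) = 0 := by
    rw [← map_natCast (Algebra.TensorProduct.includeLeftRingHom (R := A) (A := B) (B := C)), hB.1, map_zero]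
  let ψ : B ⊗[A] C →+ B ⊗[A] C := TensorProduct.liftAddHom
    (AddMonoidHom.mk' (fun b => AddMonoidHom.mk' (fun c => root hB b ⊗ₜ[A] root hC c)
      fun c c' => by rw [map_add, TensorProduct.tmul_add])
      fun b b' => by ext c; simp [map_add, TensorProduct.add_tmul])
    (fun r b c => by
      obtain ⟨t, rfl⟩ := hA.2.surjective r
      simp only [AddMonoidHom.mk'_apply]
      rw [Algebra.smul_def, Algebra.smul_def, map_pow, map_pow, root_mul, root_mul, root_pow_self,
        root_pow_self, ← Algebra.smul_def, ← Algebra.smul_def, TensorProduct.smul_tmul])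
  have hψ : ∀ b c, ψ (b ⊗ₜ[A] c) = root hB b ⊗ₜ[A] root hC c := fun b c => TensorProduct.liftAddHom_tmul _ _ b c
  have hadd : ∀ x y : B ⊗[A] C, (x + y) ^ p = x ^ p + y ^ p := fun x y => by
    obtain ⟨r, hr⟩ := exists_add_pow_prime_eq hp x y
    simp [hr, h0]
  refine ⟨h0, Function.bijective_iff_has_inverse.2 ⟨ψ, fun x => ?_, fun x => ?_⟩⟩
  · induction x using TensorProduct.induction_on with
    | zero => simp [zero_pow hp.ne_zero]
    | tmul b c => simp only [Algebra.TensorProduct.tmul_pow, hψ, root_pow_self]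
    | add x y hx hy => simp only [hadd, map_add] at hx hy ⊢; rw [hx, hy]
  · induction x using TensorProduct.induction_on with
    | zero => simp [zero_pow hp.ne_zero]
    | tmul b c => simp only [hψ, Algebra.TensorProduct.tmul_pow, root_pow]
    | add x y hx hy => simp only [map_add, hadd] at hx hy ⊢; rw [hx, hy]

end Tensor

/-- `g c ∈ J E` gives `g^{1/p} c ∈ J E` in a perfect algebra `E` -/
lemma root_smul_mem_of_algebra {E : Type u} [CommRing E] [Algebra R E] (h : Perf p R) (hE : Perf p E)
    {J : Ideal R} (hJ : J.IsRadical) (g : R) (c : E) (hc : g • c ∈ J • (⊤ : Submodule R E)) :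
    root h g • c ∈ J • (⊤ : Submodule R E) := by
  have hsm : ∀ (r : R) (e : E), root hE (r • e) = root h r • root hE e := fun r e => by
    refine hE.2.injective ?_
    simp only [root_pow, Algebra.smul_def, mul_pow, ← map_pow]
  have hroot : ∀ x, x ∈ J • (⊤ : Submodule R E) → root hE x ∈ J • (⊤ : Submodule R E) := by
    intro x hx
    refine Submodule.smul_induction_on hx (fun a ha m _ => ?_) fun a b ha hb => by rw [map_add]; exact add_mem ha hb
    rw [hsm]
    exact Submodule.smul_mem_smul (hJ ⟨p, by rwa [root_pow]⟩) Submodule.mem_top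
  obtain ⟨q, hq⟩ := Nat.exists_eq_add_of_le' (Fact.out : p.Prime).pos
  have h' : g • c ^ p ∈ J • (⊤ : Submodule R E) := by
    have e : g • c ^ p = c ^ q • (g • c) := by
      rw [hq, pow_succ, smul_eq_mul, mul_smul_comm]
    rw [e]
    refine Submodule.smul_induction_on hc (fun a ha m _ => ?_) fun a b ha hb => by rw [smul_add]; exact add_mem ha hb
    rw [smul_comm]
    exact Submodule.smul_mem_smul ha Submodule.mem_top
  have := hroot _ h'
  rwa [hsm, root_pow_self] at this

/-- the prime field maps to every ring with `p = 0` -/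
@[implicit_reducible]
noncomputable def zmodAlgebra {S : Type*} [CommRing S] (h : (p : S) = 0) : Algebra (ZMod p) S :=
  letI := ringChar.charP S
  (ZMod.castHom (ringChar.dvd h) S).toAlgebra

lemma perf_zmod : Perf p (ZMod p) :=
  ⟨ZMod.natCast_self p, by
    have : (fun x : ZMod p => x ^ p) = id := funext fun x => ZMod.pow_card x
    rw [this]; exact Function.bijective_id⟩

section Tor

variable {A B C : Type u} [CommRing A] [CommRing B] [CommRing C] [Algebra A B] [Algebra A C]
  (hA : Perf p A) (hB : Perf p B) (hC : Perf p C)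

include hA hB hC

/-- the kernel of `R ⊗ P → B ⊗ P` and exactness of `B ⊗ P` for perfect rings -/
theorem exact_lTensor (R : ProjectiveResolution (ModuleCat.of A C)) (i : ℕ) :
    Function.Exact ((R.complex.d (i + 2) (i + 1)).hom.lTensor B) ((R.complex.d (i + 1) i).hom.lTensor B) := by
  intro y
  constructor
  swap
  · rintro ⟨v, rfl⟩
    rw [← LinearMap.comp_apply, ← LinearMap.lTensor_comp, ← ModuleCat.hom_comp, HomologicalComplex.d_comp_d]
    simp
  intro hy
  letI := zmodAlgebra (p := p) hA.1
  letI := zmodAlgebra (p := p) hB.1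
  haveI : IsScalarTower (ZMod p) A B := IsScalarTower.of_algebraMap_eq' (RingHom.ext_zmod _ _)
  let B' : Type u := A ⊗[ZMod p] B
  obtain ⟨π₀, hπ⟩ : ∃ π : B' →ₐ[A] B, Function.Surjective π :=
    ⟨Algebra.TensorProduct.lift (Algebra.ofId A B) (AlgHom.id (ZMod p) B) fun a b => Commute.all _ _, fun b =>
      ⟨1 ⊗ₜ b, (Algebra.TensorProduct.lift_tmul _ _ _ (1 : A) b).trans (by rw [map_one, one_mul]; rfl)⟩⟩
  have hB' : Perf p B' := perf_tensor A B perf_zmod hA hB
  haveI : Module.Free (ZMod p) B := Module.Free.of_divisionRing (ZMod p) B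
  haveI : Module.Flat A B' := Module.Flat.baseChange (ZMod p) A B
  let D : Type u := B' ⊗[A] C
  have hDp : Perf p D := perf_tensor B' C hA hB' hC
  let dd : ∀ j, (B' ⊗[A] R.complex.X (j + 1)) →ₗ[B'] (B' ⊗[A] R.complex.X j) := fun j =>
    (R.complex.d (j + 1) j).hom.baseChange B'
  let ε : (B' ⊗[A] R.complex.X 0) →ₗ[B'] D := (R.π.f 0).hom.baseChange B'
  haveI : ∀ j, Module.Flat B' (B' ⊗[A] R.complex.X j) := fun j => Module.Flat.baseChange A B' (R.complex.X j)
  let K : Ideal B' := RingHom.ker π₀.toRingHom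
  have hK : K.IsRadical := fun x ⟨n, hn⟩ => by
    haveI := isReduced hB
    refine RingHom.mem_ker.2 (eq_zero_of_pow_eq_zero (n := n) ?_)
    rw [← map_pow]
    exact RingHom.mem_ker.1 hn
  have key : ∀ z : B' ⊗[A] R.complex.X (i + 1), dd i z ∈ K • (⊤ : Submodule B' _) →
      z ∈ LinearMap.range (dd (i + 1)) ⊔ K • (⊤ : Submodule B' _) := by
    refine mem_range_sup hB' (fun j => B' ⊗[A] R.complex.X j) dd D ε ?_ ?_ ?_ ?_ K hK i
    · exact LinearMap.lTensor_surjective B' ((ModuleCat.epi_iff_surjective _).1 inferInstance)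
    · exact Module.Flat.lTensor_exact B'
        ((ShortComplex.ShortExact.moduleCat_exact_iff_function_exact _).mp R.exact₀)
    · exact fun j => Module.Flat.lTensor_exact B'
        ((ShortComplex.ShortExact.moduleCat_exact_iff_function_exact _).mp (R.exact_succ j))
    · exact fun J hJ g c hc => root_smul_mem_of_algebra hB' hDp hJ g c hc
  obtain ⟨z, rfl⟩ := LinearMap.rTensor_surjective (R.complex.X (i + 1)) (g := π₀.toLinearMap) hπ y
  have hcomm : ∀ (j : ℕ) (w : B' ⊗[A] R.complex.X (j + 1)),
      (R.complex.d (j + 1) j).hom.lTensor B (π₀.toLinearMap.rTensor _ w) =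
        π₀.toLinearMap.rTensor _ (dd j w) := fun j w => by
    induction w using TensorProduct.induction_on with
    | zero => simp
    | tmul b x => simp [dd]
    | add a b ha hb => simp only [map_add, ha, hb]
  have hKzero : ∀ (j : ℕ) (w : B' ⊗[A] R.complex.X j), w ∈ K • (⊤ : Submodule B' _) →
      π₀.toLinearMap.rTensor (R.complex.X j) w = 0 := fun j w hw => by
    refine Submodule.smul_induction_on hw (fun k hk x _ => ?_) fun a b ha hb => by rw [map_add, ha, hb, add_zero]
    induction x using TensorProduct.induction_on with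
    | zero => simp
    | tmul b m =>
      rw [TensorProduct.smul_tmul', LinearMap.rTensor_tmul]
      have h0 : π₀ k = 0 := RingHom.mem_ker.1 hk
      simp [h0]
    | add a b ha hb => rw [smul_add, map_add, ha Submodule.mem_top, hb Submodule.mem_top, add_zero]
  have hmem : dd i z ∈ K • (⊤ : Submodule B' _) := by
    have h1 : π₀.toLinearMap.rTensor (R.complex.X i) (dd i z) = 0 := by rw [← hcomm i z]; exact hy
    obtain ⟨w, hw⟩ := (rTensor_exact (R.complex.X i) (LinearMap.exact_subtype_ker_map π₀.toLinearMap) hπ _).1 h1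
    rw [← hw]
    clear hw h1
    induction w using TensorProduct.induction_on with
    | zero => simp
    | tmul k x =>
      have : (k : B') ⊗ₜ[A] x = (k : B') • ((1 : B') ⊗ₜ[A] x) := by rw [TensorProduct.smul_tmul', smul_eq_mul, mul_one]
      rw [LinearMap.rTensor_tmul, Submodule.subtype_apply, this]
      exact Submodule.smul_mem_smul (RingHom.mem_ker.2 (LinearMap.mem_ker.1 k.2)) Submodule.mem_top
    | add a b ha hb => rw [map_add]; exact add_mem ha hb
  obtain ⟨_, ⟨v, rfl⟩, k, hk, hvk⟩ := Submodule.mem_sup.1 (key z hmem)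
  refine ⟨π₀.toLinearMap.rTensor _ v, ?_⟩
  rw [hcomm (i + 1) v, ← hvk, map_add, hKzero _ k hk, add_zero]

/-- `Tor_{i+1}^A(B, C) = 0` for perfect rings -/
theorem subsingleton_tor (i : ℕ) :
    Subsingleton (LocCoh.Tor.T (i + 1) (ModuleCat.of A B) (ModuleCat.of A C)) := by
  let R := projectiveResolution (ModuleCat.of A C)
  have hz : ((LocCoh.Tor.tC R).obj (ModuleCat.of A B)).ExactAt (i + 1) := by
    rw [HomologicalComplex.exactAt_iff' _ (i + 2) (i + 1) i (by simp) (by simp),
      ShortComplex.ShortExact.moduleCat_exact_iff_function_exact]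
    exact exact_lTensor hA hB hC R i
  exact ModuleCat.subsingleton_of_isZero (hz.isZero_homology.of_iso (LocCoh.Tor.tIso R (i + 1) _))

end Tor

end Groth.Agent.CohBase.TorBC.PerfTor
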